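import Groth.Agent.EGA41Lib.Lift
import Mathlib.RingTheory.Smooth.Basic
import Mathlib.RingTheory.Ideal.Quotient.Nilpotent
import Mathlib.FieldTheory.Perfect

/-!
# A reduced algebra with a `p`-basis over a perfect ring is formally smooth
-/

universe u v

namespace Groth.Agent.EGA41Lib

variable {p : ℕ} [hp : Fact p.Prime] {A : Type v} {B : Type u} [CommRing A] [CharP A p] [PerfectRing A p]
  [CommRing B] [Algebra A B] [CharP B p] [IsReduced B] {ι : Type u}

omit [IsReduced B] in
theorem pSub_eq_frobenius_range : pSub p A B = (frobenius B p).range := by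
  refine le_antisymm (fun y hy => ?_) ?_
  · induction hy using Algebra.adjoin_induction with
    | mem z hz =>
      obtain ⟨c, rfl⟩ := hz
      exact ⟨c, rfl⟩
    | algebraMap r =>
      obtain ⟨r', rfl⟩ := surjective_frobenius A p r
      exact ⟨algebraMap A B r', by simp [frobenius_def]⟩
    | add _ _ _ _ h1 h2 => exact Subring.add_mem _ h1 h2
    | mul _ _ _ _ h1 h2 => exact Subring.mul_mem _ h1 h2
  · rintro _ ⟨c, rfl⟩
    exact pow_mem_pSub p A c

theorem existsUnique_lift_square_zero (x : ι → B) (hx : PBasis p A x) {E : Type u}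
    [CommRing E] [Algebra A E] (R : Ideal E) (hR : R ^ 2 = ⊥) (v : B →ₐ[A] E ⧸ R) (z : ι → E)
    (hz : ∀ i, Ideal.Quotient.mk R (z i) = v (x i)) :
    ∃! w : B →ₐ[A] E, (Ideal.Quotient.mkₐ A R).comp w = v ∧ ∀ i, w (x i) = z i := by
  rcases subsingleton_or_nontrivial E with hE | hE
  · have hq : Subsingleton (E ⧸ R) := Ideal.Quotient.mk_surjective.subsingleton
    let w : B →ₐ[A] E :=
      { toFun := fun _ => 0
        map_one' := Subsingleton.elim _ _
        map_mul' := fun _ _ => Subsingleton.elim _ _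
        map_zero' := rfl
        map_add' := fun _ _ => Subsingleton.elim _ _
        commutes' := fun _ => Subsingleton.elim _ _ }
    exact ⟨w, ⟨AlgHom.ext fun _ => Subsingleton.elim _ _, fun _ => Subsingleton.elim _ _⟩,
      fun w' _ => AlgHom.ext fun _ => Subsingleton.elim _ _⟩
  have : CharP E p := (CharP.charP_iff_prime_eq_zero hp.out).2 (by
    rw [← map_natCast (algebraMap A E), CharP.cast_eq_zero, map_zero])
  have hRp : ∀ r ∈ R, r ^ p = 0 := fun r hr => by
    have h2 := Ideal.pow_mem_pow hr 2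
    rw [hR, Ideal.mem_bot] at h2
    exact pow_eq_zero_of_le hp.out.two_le h2
  have hwd : ∀ e e' : E, Ideal.Quotient.mk R e = Ideal.Quotient.mk R e' → e ^ p = e' ^ p := by
    intro e e' h
    have := hRp (e - e') ((Ideal.Quotient.mk_eq_mk_iff_sub_mem _ _).1 h)
    rwa [sub_pow_char, sub_eq_zero] at this
  choose l hl using fun c : B => Ideal.Quotient.mk_surjective (v c)
  let ψ : B →+* E :=
    { toFun := fun c => l c ^ p
      map_one' := (hwd _ 1 (by rw [hl, map_one, map_one])).trans (one_pow p)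
      map_mul' := fun c d => (hwd _ (l c * l d) (by rw [hl, map_mul, map_mul, hl, hl])).trans
        (mul_pow _ _ _)
      map_zero' := (hwd _ 0 (by rw [hl, map_zero, map_zero])).trans (zero_pow hp.out.ne_zero)
      map_add' := fun c d => (hwd _ (l c + l d) (by rw [hl, map_add, map_add, hl, hl])).trans
        (add_pow_char _ _ _) }
  let S := pSub p A B
  let fr : B →+* S := (frobenius B p).codRestrict S fun c => pow_mem_pSub p A c
  have hfr : Function.Bijective fr := by
    refine ⟨fun c d h => (frobenius_inj B p) (congrArg Subtype.val h : frobenius B p c = frobenius B p d), fun ⟨y, hy⟩ => ?_⟩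
    have hy' : y ∈ (frobenius B p).range := (pSub_eq_frobenius_range (p := p) (A := A) (B := B)) ▸ hy
    obtain ⟨c, rfl⟩ := hy'
    exact ⟨c, rfl⟩
  let σ := RingEquiv.ofBijective fr hfr
  let : Algebra S E := (ψ.comp σ.symm.toRingHom).toAlgebra
  have hψ : ∀ c : B, algebraMap S E (fr c) = l c ^ p := fun c => by
    show ψ (σ.symm (σ c)) = _
    rw [RingEquiv.symm_apply_apply]
    rfl
  let b : Module.Basis (Red p ι) S B := Module.Basis.mk hx.1 (ge_of_eq hx.2)
  obtain ⟨w, hw, hwu⟩ := existsUnique_algHom b (fun e => Module.Basis.mk_apply _ _ e)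
    (fun i => ⟨fr (x i), rfl⟩) z (fun i a ha => by
      have : a = fr (x i) := Subtype.ext ha
      rw [this, hψ]
      exact hwd _ _ (by rw [hl, hz]))
  have hwp : ∀ c : B, w (c ^ p) = l c ^ p := fun c => by
    rw [← hψ, ← w.commutes]
    rfl
  let w' : B →ₐ[A] E :=
    { w.toRingHom with
      commutes' := fun a => by
        obtain ⟨a', rfl⟩ := surjective_frobenius A p a
        show w (algebraMap A B (a' ^ p)) = algebraMap A E (a' ^ p)
        rw [map_pow (algebraMap A B), hwp, map_pow]
        exact hwd _ _ (by rw [hl, AlgHom.commutes, Ideal.Quotient.mk_algebraMap]) }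
  refine ⟨w', ⟨?_, hw⟩, fun u ⟨hu, hux⟩ => ?_⟩
  · refine AlgHom.ext fun c => ?_
    have hc : c ∈ Submodule.span S (Set.range (mono (p := p) x)) := by
      have h2 : Gen p S x := hx.2
      rw [Gen] at h2
      rw [h2]
      trivial
    show Ideal.Quotient.mk R (w c) = v c
    induction hc using Submodule.span_induction with
    | mem m hm =>
      obtain ⟨e, rfl⟩ := hm
      show Ideal.Quotient.mk R (w (EGA41.pMonomial x e.1)) = v (EGA41.pMonomial x e.1)
      rw [map_pMonomial, map_pMonomial, map_pMonomial]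
      simp [hw, hz]
    | zero => simp
    | add _ _ _ _ h1 h2 => simp [h1, h2]
    | smul s m _ h =>
      obtain ⟨d, rfl⟩ := hfr.2 s
      have e : fr d • m = d ^ p * m := rfl
      rw [e, map_mul, map_mul, map_mul, h, hwp, map_pow, hl, map_pow]
  · let u' : B →ₐ[S] E :=
      { u.toRingHom with
        commutes' := fun s => by
          obtain ⟨d, rfl⟩ := hfr.2 s
          rw [hψ]
          show u (d ^ p) = _
          rw [map_pow]
          refine hwd _ _ ?_
          rw [hl, ← hu]
          rfl }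
    have h2 : u' = w := hwu u' hux
    exact AlgHom.ext fun c => DFunLike.congr_fun h2 c

theorem existsUnique_lift (x : ι → B) (hx : PBasis p A x) {E : Type u} [CommRing E]
    (R : Ideal E) (hR : IsNilpotent R) :
    ∀ [Algebra A E] (v : B →ₐ[A] E ⧸ R) (z : ι → E),
      (∀ i, Ideal.Quotient.mk R (z i) = v (x i)) →
      ∃! w : B →ₐ[A] E, (Ideal.Quotient.mkₐ A R).comp w = v ∧ ∀ i, w (x i) = z i := by
  apply Ideal.IsNilpotent.induction_on (S := E) R hR
    (P := fun ⦃E : Type u⦄ [CommRing E] (R : Ideal E) => ∀ [Algebra A E] (v : B →ₐ[A] E ⧸ R) (z : ι → E),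
      (∀ i, Ideal.Quotient.mk R (z i) = v (x i)) →
      ∃! w : B →ₐ[A] E, (Ideal.Quotient.mkₐ A R).comp w = v ∧ ∀ i, w (x i) = z i)
  · intro E _ I hI _ v z hz
    exact existsUnique_lift_square_zero x hx I hI v z hz
  · intro E _ I J hIJ h1 h2 _ v z hz
    let e : ((E ⧸ I) ⧸ J.map (Ideal.Quotient.mk I)) ≃ₐ[A] E ⧸ J :=
      DoubleQuot.quotQuotEquivQuotOfLEₐ A hIJ
    have he : ∀ c : E, e (Ideal.Quotient.mk _ (Ideal.Quotient.mk I c)) =
        Ideal.Quotient.mk J c := fun c => rfl
    obtain ⟨w1, ⟨hw1, hw1x⟩, hw1u⟩ := h2 (e.symm.toAlgHom.comp v)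
      (fun i => Ideal.Quotient.mk I (z i)) (fun i => by
        apply e.injective
        show e _ = e (e.symm (v (x i)))
        rw [he, AlgEquiv.apply_symm_apply]
        exact hz i)
    obtain ⟨w2, ⟨hw2, hw2x⟩, hw2u⟩ := h1 w1 z (fun i => (hw1x i).symm)
    refine ⟨w2, ⟨?_, hw2x⟩, fun u ⟨hu, hux⟩ => hw2u u ⟨hw1u _ ⟨?_, ?_⟩, hux⟩⟩
    · refine AlgHom.ext fun c => ?_
      have h3 := congrArg e (DFunLike.congr_fun hw1 c)
      have h4 : Ideal.Quotient.mk I (w2 c) = w1 c := DFunLike.congr_fun hw2 c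
      show Ideal.Quotient.mk J (w2 c) = v c
      rw [← he, h4]
      exact h3.trans (e.apply_symm_apply (v c))
    · refine AlgHom.ext fun c => e.injective ?_
      show e (Ideal.Quotient.mk _ (Ideal.Quotient.mk I (u c))) = e (e.symm (v c))
      rw [he, AlgEquiv.apply_symm_apply, ← hu]
      rfl
    · intro i
      show Ideal.Quotient.mk I (u (x i)) = _
      rw [hux]

theorem formallySmooth_of_perfect {A : Type u} [CommRing A] [CharP A p] [PerfectRing A p]
    [Algebra A B] (x : ι → B) (hx : PBasis p A x) :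
    Algebra.FormallySmooth A B ∧
    ∀ (E : Type u) [CommRing E] [Algebra A E] (R : Ideal E), IsNilpotent R →
      ∀ (v : B →ₐ[A] E ⧸ R) (z : ι → E), (∀ i, Ideal.Quotient.mk R (z i) = v (x i)) →
        ∃! w : B →ₐ[A] E, (Ideal.Quotient.mkₐ A R).comp w = v ∧ ∀ i, w (x i) = z i := by
  refine ⟨Algebra.FormallySmooth.of_comp_surjective fun E _ _ I hI v => ?_,
    fun E _ _ R hR v z hz => existsUnique_lift x hx R hR v z hz⟩
  obtain ⟨w, ⟨hw, -⟩, -⟩ := existsUnique_lift_square_zero x hx I hI v
    (fun i => (Ideal.Quotient.mk_surjective (v (x i))).choose)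
    (fun i => (Ideal.Quotient.mk_surjective (v (x i))).choose_spec)
  exact ⟨w, hw⟩

end Groth.Agent.EGA41Lib
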