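import Groth.Agent.EGA41Lib.FrobLI
import Groth.Agent.EGA41Lib.FormallySmooth
import Mathlib.RingTheory.Smooth.Field
import Mathlib.RingTheory.Etale.Field
import Mathlib.RingTheory.Kaehler.JacobiZariski
import Mathlib.Algebra.Algebra.ZMod
import Mathlib.Algebra.Algebra.Rat
import Mathlib.Algebra.Field.ZMod
import Mathlib.Algebra.CharP.Algebra

/-!
# Separable field extensions: geometrically reduced, formally smooth, injective on differentials
-/

universe u u'

namespace Groth.Agent.EGA41Lib

open TensorProduct
open KaehlerDifferential (D mapBaseChange)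

variable {k K : Type u} [Field k] [Field K] [Algebra k K]

theorem exists_extension_of_injective {R : Type u'} [CommRing R] [Algebra R k] [Algebra R K]
    [IsScalarTower R k K] (hinj : Function.Injective (mapBaseChange R k K)) {M : Type u}
    [AddCommGroup M] [Module K M] [Module k M] [IsScalarTower k K M] [Module R M]
    [IsScalarTower R K M] [IsScalarTower R k M] (δ : Derivation R k M) :
    ∃ δ' : Derivation R K M, ∀ a : k, δ' (algebraMap k K a) = δ a := by
  obtain ⟨r, hr⟩ := (mapBaseChange R k K).exists_leftInverse_of_injective
    (LinearMap.ker_eq_bot.2 hinj)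
  refine ⟨((δ.liftKaehlerDifferential.liftBaseChange K).comp r).compDer (D R K), fun a => ?_⟩
  have h1 := LinearMap.congr_fun hr ((1 : K) ⊗ₜ[k] D R k a)
  simp only [LinearMap.comp_apply, LinearMap.id_apply, KaehlerDifferential.mapBaseChange_tmul,
    one_smul, KaehlerDifferential.map_D] at h1
  simp [h1, Derivation.liftKaehlerDifferential_comp_D]

theorem injective_of_extension
    (h : ∀ δ : Derivation ℤ k K, ∃ δ' : Derivation ℤ K K,
      ∀ a : k, δ' (algebraMap k K a) = δ a) :
    Function.Injective (mapBaseChange ℤ k K) := by
  rw [← LinearMap.ker_eq_bot, Submodule.eq_bot_iff]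
  intro y hy
  by_contra hy0
  obtain ⟨φ, hφ⟩ := Module.Projective.exists_dual_ne_zero K hy0
  obtain ⟨δ', hδ'⟩ := h (((φ.restrictScalars k).comp
    (TensorProduct.mk k K (Ω[k⁄ℤ]) 1)).compDer (D ℤ k))
  have key : δ'.liftKaehlerDifferential.comp (mapBaseChange ℤ k K) = φ := by
    refine TensorProduct.AlgebraTensorModule.curry_injective
      (LinearMap.ext_ring (LinearMap.ext_on (KaehlerDifferential.span_range_derivation ℤ k) ?_))
    rintro _ ⟨a, rfl⟩
    simp [hδ']
  exact hφ (by rw [← key, LinearMap.comp_apply, LinearMap.mem_ker.1 hy, map_zero])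

theorem injective_of_formallySmooth {R : Type u'} [CommRing R] [Algebra R k] [Algebra R K]
    [IsScalarTower R k K] [Algebra.FormallySmooth k K] :
    Function.Injective (mapBaseChange R k K) := by
  rw [injective_iff_map_eq_zero]
  intro y hy
  obtain ⟨z, rfl⟩ := (Algebra.H1Cotangent.exact_δ_mapBaseChange R k K y).1 hy
  have : Subsingleton (Algebra.H1Cotangent k K) :=
    Algebra.FormallySmooth.subsingleton_h1Cotangent
  rw [Subsingleton.elim z 0, map_zero]

theorem formallySmooth_of_charZero [CharZero k] : Algebra.FormallySmooth k K := by
  obtain ⟨s, hs⟩ := exists_isTranscendenceBasis k K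
  have : Algebra.IsAlgebraic (IntermediateField.adjoin k (Set.range (Subtype.val : s → K))) K :=
    hs.isAlgebraic_field
  have : CharZero (IntermediateField.adjoin k (Set.range (Subtype.val : s → K))) :=
    charZero_of_injective_algebraMap (R := k) (RingHom.injective _)
  exact Algebra.FormallySmooth.of_algebraicIndependent_of_isSeparable hs.1

/-- Every field is absolutely formally smooth: lifting of ring maps to square-zero thickenings. -/
theorem exists_ringHom_lift (C : Type u) [CommRing C] [Algebra k C] (I : Ideal C) (hI : I ^ 2 = ⊥)
    (f : K →+* C ⧸ I) : ∃ w : K →+* C, (Ideal.Quotient.mk I).comp w = f := by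
  rcases subsingleton_or_nontrivial C with hC | hC
  · exact ⟨{ toFun := fun _ => 0
             map_one' := Subsingleton.elim _ _
             map_mul' := fun _ _ => Subsingleton.elim _ _
             map_zero' := rfl
             map_add' := fun _ _ => Subsingleton.elim _ _ },
      RingHom.ext fun _ => by
        have := (Ideal.Quotient.mk_surjective (I := I)).subsingleton
        exact Subsingleton.elim _ _⟩
  obtain ⟨p, hchar⟩ := CharP.exists k
  rcases CharP.char_is_prime_or_zero k p with hp | rfl
  · have : Fact p.Prime := ⟨hp⟩
    have : CharP K p := charP_of_injective_algebraMap (RingHom.injective (algebraMap k K)) p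
    have : CharP C p := charP_of_injective_algebraMap (RingHom.injective (algebraMap k C)) p
    let : Algebra (ZMod p) K := ZMod.algebra K p
    let : Algebra (ZMod p) C := ZMod.algebra C p
    have : PerfectRing (ZMod p) p := PerfectRing.ofFiniteOfIsReduced p (ZMod p)
    obtain ⟨B, hB⟩ := exists_isPBasis (p := p) (k := ZMod p) (K := K)
    let v : K →ₐ[ZMod p] C ⧸ I :=
      { f with
        commutes' := fun a => RingHom.congr_fun (Subsingleton.elim (f.comp (algebraMap (ZMod p) K))
          (algebraMap (ZMod p) (C ⧸ I))) a }
    obtain ⟨w, ⟨hw, -⟩, -⟩ := existsUnique_lift_square_zero _ hB I hI v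
      (fun i => (Ideal.Quotient.mk_surjective (v i)).choose)
      (fun i => (Ideal.Quotient.mk_surjective (v i)).choose_spec)
    exact ⟨w.toRingHom, RingHom.ext fun a => AlgHom.congr_fun hw a⟩
  · have : CharZero k := CharP.charP_to_charZero k
    have : CharZero K := charZero_of_injective_algebraMap (RingHom.injective (algebraMap k K))
    let : Algebra ℚ C := ((algebraMap k C).comp (algebraMap ℚ k)).toAlgebra
    let v : K →ₐ[ℚ] C ⧸ I :=
      { f with
        commutes' := fun a => RingHom.congr_fun (Subsingleton.elim (f.comp (algebraMap ℚ K))
          (algebraMap ℚ (C ⧸ I))) a }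
    have hQ : Algebra.FormallySmooth ℚ K := by
      obtain ⟨s, hs⟩ := exists_isTranscendenceBasis ℚ K
      have : Algebra.IsAlgebraic (IntermediateField.adjoin ℚ (Set.range (Subtype.val : s → K))) K :=
        hs.isAlgebraic_field
      have : CharZero (IntermediateField.adjoin ℚ (Set.range (Subtype.val : s → K))) :=
        charZero_of_injective_algebraMap (R := ℚ) (RingHom.injective _)
      exact Algebra.FormallySmooth.of_algebraicIndependent_of_isSeparable hs.1
    obtain ⟨w, hw⟩ := Algebra.FormallySmooth.comp_surjective ℚ K I hI v
    exact ⟨w.toRingHom, RingHom.ext fun a => AlgHom.congr_fun hw a⟩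

/-- A copy of an additive group, forgetting inherited actions. -/
def Bare (M : Type u) : Type u := M

instance (M : Type u) [AddCommGroup M] : AddCommGroup (Bare M) := ‹AddCommGroup M›

theorem formallySmooth_of_injective (hinj : Function.Injective (mapBaseChange ℤ k K)) :
    Algebra.FormallySmooth k K := by
  refine Algebra.FormallySmooth.of_comp_surjective fun C _ _ I hI v => ?_
  obtain ⟨w, hw⟩ := exists_ringHom_lift (k := k) C I hI v.toRingHom
  have hw' : ∀ a : K, Ideal.Quotient.mk I (w a) = v a := fun a => RingHom.congr_fun hw a
  let : Algebra K C := w.toAlgebra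
  let : Module K (Bare I) := inferInstanceAs (Module K I)
  let : Module k (Bare I) := Module.compHom (Bare I) (algebraMap k K)
  have : IsScalarTower k K (Bare I) := ⟨fun a b x => by
    rw [Algebra.smul_def, mul_smul]
    rfl⟩
  have hmulI : ∀ x y : C, x ∈ I → y ∈ I → x * y = 0 := fun x y hx hy => by
    have := Ideal.mul_mem_mul hx hy
    rwa [← pow_two, hI, Ideal.mem_bot] at this
  have hmem : ∀ a : k, algebraMap k C a - w (algebraMap k K a) ∈ I := fun a => by
    rw [← Ideal.Quotient.mk_eq_mk_iff_sub_mem, hw', AlgHom.commutes]
    rfl
  let δ0 : k →+ Bare I :=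
    { toFun := fun a => ⟨_, hmem a⟩
      map_zero' := Subtype.ext (show algebraMap k C 0 - w (algebraMap k K 0) = 0 by simp)
      map_add' := fun a b => Subtype.ext (show algebraMap k C (a + b) - w (algebraMap k K (a + b)) =
          (algebraMap k C a - w (algebraMap k K a)) + (algebraMap k C b - w (algebraMap k K b)) by
        simp only [map_add]
        ring) }
  let δ : Derivation ℤ k (Bare I) := Derivation.mk' δ0.toIntLinearMap fun a b => Subtype.ext (by
    show algebraMap k C (a * b) - w (algebraMap k K (a * b)) =
      w (algebraMap k K a) * (algebraMap k C b - w (algebraMap k K b)) +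
        w (algebraMap k K b) * (algebraMap k C a - w (algebraMap k K a))
    have h := hmulI _ _ (hmem a) (hmem b)
    simp only [map_mul]
    linear_combination h)
  obtain ⟨δ', hδ'⟩ := exists_extension_of_injective hinj δ
  let e : K →+ I :=
    { toFun := fun a => δ' a
      map_zero' := map_zero δ'
      map_add' := map_add δ' }
  have he : ∀ a b : K, (e (a * b) : C) = w a * (e b : C) + w b * (e a : C) := fun a b =>
    congrArg Subtype.val (δ'.leibniz a b : e (a * b) = _)
  let w' : K →ₐ[k] C :=
    { toFun := fun a => w a + (e a : C)
      map_one' := by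
        have h1 : e 1 = 0 := δ'.map_one_eq_zero
        simp [h1]
      map_mul' := fun a b => by
        have h := hmulI _ _ (e a).2 (e b).2
        rw [he, map_mul]
        linear_combination -h
      map_zero' := by simp
      map_add' := fun a b => by
        simp only [map_add, Submodule.coe_add]
        ring
      commutes' := fun a => by
        have h1 : (e (algebraMap k K a) : C) = algebraMap k C a - w (algebraMap k K a) :=
          congrArg Subtype.val (hδ' a : e (algebraMap k K a) = _)
        show w (algebraMap k K a) + (e (algebraMap k K a) : C) = _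
        rw [h1]
        ring }
  refine ⟨w', AlgHom.ext fun a => ?_⟩
  show Ideal.Quotient.mk I (w a + (e a : C)) = v a
  rw [map_add, hw', Ideal.Quotient.eq_zero_iff_mem.2 (e a).2, add_zero]

theorem isGeometricallyReduced_of_charZero [CharZero k] : Algebra.IsGeometricallyReduced k K := by
  rw [Algebra.isGeometricallyReduced_field_iff]
  have := isReduced_tensor_of_charZero (k := k) K (AlgebraicClosure k)
  exact isReduced_of_injective (Algebra.TensorProduct.comm k (AlgebraicClosure k) K)
    (AlgEquiv.injective _)

theorem isGeometricallyReduced_iff_injective :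
    Algebra.IsGeometricallyReduced k K ↔ Function.Injective (mapBaseChange ℤ k K) := by
  obtain ⟨p, hchar⟩ := CharP.exists k
  rcases CharP.char_is_prime_or_zero k p with hp | rfl
  · have : Fact p.Prime := ⟨hp⟩
    have : CharP K p := charP_of_injective_algebraMap (RingHom.injective (algebraMap k K)) p
    exact ⟨fun _ => frobLI_iff_injective.1 (frobLI_of_isGeometricallyReduced (p := p)),
      fun h => FrobLI.isGeometricallyReduced ((frobLI_iff_injective (p := p)).2 h)⟩
  · have : CharZero k := CharP.charP_to_charZero k
    have := formallySmooth_of_charZero (k := k) (K := K)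
    exact iff_of_true isGeometricallyReduced_of_charZero injective_of_formallySmooth

theorem formallySmooth_iff_isGeometricallyReduced :
    Algebra.FormallySmooth k K ↔ Algebra.IsGeometricallyReduced k K := by
  rw [isGeometricallyReduced_iff_injective]
  exact ⟨fun _ => injective_of_formallySmooth, formallySmooth_of_injective⟩

/-- A separable extension stays reduced after tensoring with any reduced algebra. -/
theorem isReduced_tensor [Algebra.IsGeometricallyReduced k K] (R : Type u) [CommRing R]
    [Algebra k R] [IsReduced R] : IsReduced (K ⊗[k] R) := by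
  obtain ⟨p, hchar⟩ := CharP.exists k
  rcases CharP.char_is_prime_or_zero k p with hp | rfl
  · have : Fact p.Prime := ⟨hp⟩
    exact FrobLI.isReduced_tensor (frobLI_of_isGeometricallyReduced (p := p)) R
  · have : CharZero k := CharP.charP_to_charZero k
    exact isReduced_tensor_of_charZero K R

end Groth.Agent.EGA41Lib
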