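import Groth.Agent.EGA41Lib.Lift
import Mathlib.RingTheory.Kaehler.Basic

/-!
# Differentials of `p`-bases
-/

universe u v

namespace Groth.Agent.EGA41Lib

open EGA41 (pMonomial)
open KaehlerDifferential (D)

variable {p : ℕ} {A : Type v} {B : Type u} [CommRing A] [CommRing B] [Algebra A B]

theorem derivation_apply_eq_zero_of_mem_pSub [CharP B p] {L : Type u} [AddCommGroup L]
    [Module B L] [Module A L] (δ : Derivation A B L) {b : B} (hb : b ∈ pSub p A B) :
    δ b = 0 := by
  induction hb using Algebra.adjoin_induction with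
  | mem z hz =>
    obtain ⟨c, rfl⟩ := hz
    show δ (c ^ p) = 0
    rw [Derivation.leibniz_pow, ← Nat.cast_smul_eq_nsmul B, CharP.cast_eq_zero, zero_smul]
  | algebraMap r => exact δ.map_algebraMap r
  | add _ _ _ _ h1 h2 => rw [map_add, h1, h2, add_zero]
  | mul a c _ _ h1 h2 => rw [Derivation.leibniz, h1, h2, smul_zero, smul_zero, add_zero]

theorem derivation_mem_span {L : Type u} [AddCommGroup L] [Module B L] [Module A L]
    (δ : Derivation A B L) {S : Subring B} (hS : ∀ s ∈ S, δ s = 0) {T : Set B} {b : B}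
    (hb : b ∈ Subring.closure ((S : Set B) ∪ T)) : δ b ∈ Submodule.span B (δ '' T) := by
  induction hb using Subring.closure_induction with
  | mem z hz =>
    rcases hz with hz | hz
    · rw [hS z hz]
      exact Submodule.zero_mem _
    · exact Submodule.subset_span ⟨z, hz, rfl⟩
  | zero => simp
  | one => simp
  | add _ _ _ _ h1 h2 => rw [map_add]; exact Submodule.add_mem _ h1 h2
  | neg _ _ h => rw [map_neg]; exact Submodule.neg_mem _ h
  | mul a c _ _ h1 h2 =>
    rw [Derivation.leibniz]
    exact Submodule.add_mem _ (Submodule.smul_mem _ _ h2) (Submodule.smul_mem _ _ h1)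

variable [hp : Fact p.Prime] [CharP B p] {ι : Type u} {x : ι → B}

theorem span_D_eq_top (hx : PGen p A x) :
    Submodule.span B (Set.range fun i => D A B (x i)) = ⊤ := by
  refine eq_top_iff.2 ?_
  rw [← KaehlerDifferential.span_range_derivation A B, Submodule.span_le]
  rintro _ ⟨b, rfl⟩
  have hb : b ∈ Subring.closure ((pSub p A B : Set B) ∪ Set.range x) := by
    rw [(pGen_iff_closure p A x).1 hx]
    trivial
  have := derivation_mem_span (D A B) (fun s hs => derivation_apply_eq_zero_of_mem_pSub _ hs) hb
  rwa [← Set.range_comp] at this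

theorem exists_dual_derivation (hx : PBasis p A x) (y : ι → B) :
    ∃ δ : Derivation A B B, ∀ i, δ (x i) = y i := by
  let b : Module.Basis (Red p ι) (pSub p A B) B := Module.Basis.mk hx.1 (ge_of_eq hx.2)
  obtain ⟨δ, hδS, hδ⟩ := exists_derivation (A := pSub p A B) (B := B) (L := B) b
    (fun e => Module.Basis.mk_apply _ _ e)
    (fun i => ⟨⟨x i ^ p, pow_mem_pSub p A (x i)⟩, rfl⟩) 0 (fun _ _ _ => rfl) y
  have hA : ∀ a : A, δ (algebraMap A B a) = 0 := fun a =>
    hδS ⟨_, algebraMap_mem_pSub p A a⟩
  refine ⟨Derivation.mk'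
    { toFun := δ
      map_add' := map_add δ
      map_smul' := fun a c => ?_ } fun c d => δ.leibniz c d, hδ⟩
  rw [Algebra.smul_def, Derivation.leibniz, hA, smul_zero, add_zero, RingHom.id_apply]
  exact algebraMap_smul B a _

theorem exists_basis_kaehler (hx : PBasis p A x) :
    ∃ b : Module.Basis ι B (Ω[B⁄A]), ∀ i, b i = D A B (x i) := by
  classical
  have hli : LinearIndependent B fun i => D A B (x i) := by
    rw [linearIndependent_iff']
    intro s g hg i hi
    obtain ⟨δ, hδ⟩ := exists_dual_derivation hx (fun j => if j = i then 1 else 0)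
    have h2 := congrArg δ.liftKaehlerDifferential hg
    simpa [map_sum, Derivation.liftKaehlerDifferential_comp_D, hδ, hi] using h2
  exact ⟨Module.Basis.mk hli (ge_of_eq (span_D_eq_top hx.2)),
    fun i => Module.Basis.mk_apply _ _ i⟩

end Groth.Agent.EGA41Lib
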