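import Groth.Agent.EGA41Lib.Fields
import Groth.Agent.EGA41Lib.Kaehler

/-!
# `p`-bases of field extensions and differentials
-/

universe u v

namespace Groth.Agent.EGA41Lib

open KaehlerDifferential (D)

variable {p : ℕ} [hp : Fact p.Prime] {k : Type v} {K : Type u} [CommRing k] [Field K] [Algebra k K] [CharP K p]

omit [CharP K p] in
theorem isPIndependent_comp {ι κ : Type u} {x : ι → K} (h : PIndep p k x)
    (g : κ → ι) (hg : Function.Injective g) : PIndep p k (x ∘ g) :=
  Ind.comp h g hg

theorem exists_isPBasis_between (S L : Set K) (hLS : L ⊆ S)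
    (hS : Subring.closure ((pSub p k K : Set K) ∪ S) = ⊤)
    (hL : PIndep p k (Subtype.val : L → K)) :
    ∃ B : Set K, L ⊆ B ∧ B ⊆ S ∧ PBasis p k (Subtype.val : B → K) := by
  obtain ⟨B, h1, h2, h3, h4⟩ := exists_maximal_ind (pow_mem_pSub p k) hLS hL
  refine ⟨B, h1, h2, h3, (pGen_iff_closure p k _).2 ?_⟩
  rw [Subtype.range_coe]
  refine eq_top_iff.2 (hS.ge.trans (Subring.closure_le.2 (Set.union_subset ?_ h4)))
  exact Set.subset_union_left.trans Subring.subset_closure

theorem isPIndependent_empty : PIndep p k (Subtype.val : (∅ : Set K) → K) :=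
  ind_of_notMem_closure (pow_mem_pSub p k) fun a => a.2.elim

theorem exists_isPBasis : ∃ B : Set K, PBasis p k (Subtype.val : B → K) := by
  obtain ⟨B, -, -, h⟩ := exists_isPBasis_between (p := p) (k := k) (K := K) Set.univ ∅ (Set.empty_subset _)
    (eq_top_iff.2 fun y _ => Subring.subset_closure (Or.inr trivial)) (isPIndependent_empty (p := p) (k := k))
  exact ⟨B, h⟩

theorem isPIndependent_iff_linearIndependent {ι : Type u} (x : ι → K) :
    PIndep p k x ↔ LinearIndependent K (fun i => D k K (x i)) := by
  constructor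
  · intro h
    have hinj : Function.Injective x := Ind.injective h
    have hL : PIndep p k (Subtype.val : Set.range x → K) := by
      have e : (Subtype.val : Set.range x → K) = x ∘ (Equiv.ofInjective x hinj).symm := by
        funext y
        exact (Equiv.apply_ofInjective_symm hinj y).symm
      rw [e]
      exact isPIndependent_comp h _ (Equiv.injective _)
    obtain ⟨B, hLB, -, hB⟩ := exists_isPBasis_between (p := p) (k := k) Set.univ (Set.range x)
      (Set.subset_univ _) (eq_top_iff.2 fun y _ => Subring.subset_closure (Or.inr trivial)) hL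
    obtain ⟨b, hb⟩ := exists_basis_kaehler hB
    have h2 := b.linearIndependent.comp (fun i => (⟨x i, hLB ⟨i, rfl⟩⟩ : B))
      fun i j hij => hinj (congrArg Subtype.val hij)
    refine (Eq.mp ?_ h2 :)
    congr 1
    funext i
    exact hb _
  · intro h
    refine ind_of_notMem_closure (pow_mem_pSub p k) fun a ha => ?_
    refine h.notMem_span_image (s := {b | b ≠ a}) (x := a) (by simp) ?_
    have := derivation_mem_span (D k K)
      (fun s hs => derivation_apply_eq_zero_of_mem_pSub _ hs) ha
    rwa [Set.image_image] at this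

theorem isPGenerating_iff_span_eq_top {ι : Type u} (x : ι → K) :
    PGen p k x ↔ Submodule.span K (Set.range fun i => D k K (x i)) = ⊤ := by
  refine ⟨span_D_eq_top, fun h => ?_⟩
  obtain ⟨B0, -, hB0x, hB0, hgen⟩ := exists_maximal_ind (p := p) (pow_mem_pSub p k)
    (Set.empty_subset (Set.range x)) (L := ∅) (isPIndependent_empty (p := p) (k := k))
  obtain ⟨B1, hB01, -, hB1⟩ := exists_isPBasis_between (p := p) (k := k) Set.univ B0
    (Set.subset_univ _) (eq_top_iff.2 fun y _ => Subring.subset_closure (Or.inr trivial)) hB0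
  obtain ⟨b, hb⟩ := exists_basis_kaehler hB1
  have heq : B1 = B0 := by
    refine subset_antisymm (fun c hc => ?_) hB01
    by_contra hc0
    refine b.linearIndependent.notMem_span_image (s := {i : B1 | (i : K) ∈ B0}) (x := ⟨c, hc⟩)
      hc0 ?_
    rw [hb]
    have hsub : ∀ i, D k K (x i) ∈ Submodule.span K (D k K '' B0) := fun i =>
      derivation_mem_span (D k K) (fun s hs => derivation_apply_eq_zero_of_mem_pSub _ hs)
        (hgen ⟨i, rfl⟩)
    have htop : D k K c ∈ Submodule.span K (D k K '' B0) := by
      refine (h.ge.trans (Submodule.span_le.2 ?_)) trivial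
      rintro _ ⟨i, rfl⟩
      exact hsub i
    refine Submodule.span_mono ?_ htop
    rintro _ ⟨y, hy, rfl⟩
    exact ⟨⟨y, hB01 hy⟩, hy, hb _⟩
  rw [pGen_iff_closure]
  have h2 := (pGen_iff_closure p k _).1 hB1.2
  rw [Subtype.range_coe, heq] at h2
  exact eq_top_iff.2 (h2.ge.trans (Subring.closure_mono (Set.union_subset_union_right _ hB0x)))

theorem isPBasis_iff_exists_basis {ι : Type u} (x : ι → K) :
    PBasis p k x ↔ ∃ b : Module.Basis ι K (Ω[K⁄k]), ∀ i, b i = D k K (x i) := by
  refine ⟨exists_basis_kaehler, fun ⟨b, hb⟩ => ?_⟩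
  have e : (fun i => D k K (x i)) = b := funext fun i => (hb i).symm
  exact ⟨(isPIndependent_iff_linearIndependent x).2 (e ▸ b.linearIndependent),
    (isPGenerating_iff_span_eq_top x).2 (e ▸ b.span_eq)⟩

end Groth.Agent.EGA41Lib
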