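import Mathlib.RingTheory.Smooth.Basic
import Mathlib.RingTheory.AdicCompletion.RingHom

/-!
# Formally smooth algebras map into adically complete rings
-/

universe u

namespace Groth.Agent.EGA41Lib

variable {k A K : Type u} [CommRing k] [CommRing A] [CommRing K] [Algebra k A] [Algebra k K]

theorem exists_lift_succ [Algebra.FormallySmooth k K] (m : Ideal A) (n : ℕ)
    (f : K →ₐ[k] A ⧸ m ^ (n + 1)) :
    ∃ g : K →ₐ[k] A ⧸ m ^ (n + 2), ∀ y,
      Ideal.Quotient.factorPow m (Nat.le_succ (n + 1)) (g y) = f y := by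
  let q : A ⧸ m ^ (n + 2) →ₐ[k] A ⧸ m ^ (n + 1) :=
    Ideal.Quotient.factorₐ k (Ideal.pow_le_pow_right (Nat.le_succ (n + 1)))
  have hq : Function.Surjective q := fun y => by
    obtain ⟨a, rfl⟩ := Ideal.Quotient.mk_surjective y
    exact ⟨Ideal.Quotient.mk _ a, rfl⟩
  have hnil : IsNilpotent (RingHom.ker (q : A ⧸ m ^ (n + 2) →+* A ⧸ m ^ (n + 1))) := by
    refine ⟨2, ?_⟩
    rw [Ideal.zero_eq_bot, eq_bot_iff, pow_two, Ideal.mul_le]
    intro x hx y hy
    obtain ⟨a, rfl⟩ := Ideal.Quotient.mk_surjective x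
    obtain ⟨b, rfl⟩ := Ideal.Quotient.mk_surjective y
    have ha : a ∈ m ^ (n + 1) := Ideal.Quotient.eq_zero_iff_mem.1 hx
    have hb : b ∈ m ^ (n + 1) := Ideal.Quotient.eq_zero_iff_mem.1 hy
    rw [Ideal.mem_bot, ← map_mul, Ideal.Quotient.eq_zero_iff_mem]
    exact Ideal.pow_le_pow_right (by omega) (pow_add m (n + 1) (n + 1) ▸ Ideal.mul_mem_mul ha hb)
  exact ⟨Algebra.FormallySmooth.liftOfSurjective f q hq hnil,
    Algebra.FormallySmooth.liftOfSurjective_apply f q hq hnil⟩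

theorem exists_lift_of_isAdicComplete [Algebra.FormallySmooth k K] (m : Ideal A)
    [IsAdicComplete m A] (f0 : K →ₐ[k] A ⧸ m) :
    ∃ σ : K →ₐ[k] A, ∀ x, Ideal.Quotient.mk m (σ x) = f0 x := by
  choose g hg using exists_lift_succ (k := k) (K := K) m
  let e : (A ⧸ m) ≃ₐ[k] A ⧸ m ^ (0 + 1) :=
    Ideal.quotientEquivAlgOfEq k (by rw [zero_add, pow_one])
  let f : (n : ℕ) → K →ₐ[k] A ⧸ m ^ (n + 1) :=
    fun n => Nat.rec (motive := fun n => K →ₐ[k] A ⧸ m ^ (n + 1)) (e.toAlgHom.comp f0) g n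
  have hf : ∀ n, (Ideal.Quotient.factorPow m (Nat.le_succ (n + 1))).comp (f (n + 1)).toRingHom =
      (f n).toRingHom := fun n => RingHom.ext fun y => hg n (f n) y
  have ha : StrictMono fun n : ℕ => n + 1 := fun a b h => Nat.succ_lt_succ h
  let σ := IsAdicComplete.StrictMono.liftRingHom m ha (fun n => (f n).toRingHom) fun {n} => hf n
  have hσ : ∀ n x, Ideal.Quotient.mk (m ^ (n + 1)) (σ x) = f n x := fun n x =>
    IsAdicComplete.StrictMono.mk_liftRingHom m ha _ _ (n := n) x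
  refine ⟨{ σ with commutes' := fun a => ?_ }, fun x => ?_⟩
  · show σ (algebraMap k _ a) = algebraMap k A a
    refine (IsHausdorff.eq_iff_smodEq (I := m)).2 fun n => ?_
    rw [SModEq.sub_mem, smul_eq_mul, Ideal.mul_top]
    refine Ideal.pow_le_pow_right (Nat.le_succ n) ?_
    rw [← Ideal.Quotient.mk_eq_mk_iff_sub_mem, hσ, AlgHom.commutes]
    rfl
  · show Ideal.Quotient.mk m (σ x) = f0 x
    obtain ⟨a, ha⟩ := Ideal.Quotient.mk_surjective (f0 x)
    have h2 : Ideal.Quotient.mk (m ^ (0 + 1)) (σ x) = e (f0 x) := hσ 0 x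
    rw [← ha] at h2
    have h3 : Ideal.Quotient.mk (m ^ (0 + 1)) (σ x) = Ideal.Quotient.mk (m ^ (0 + 1)) a := h2
    rw [Ideal.Quotient.mk_eq_mk_iff_sub_mem, zero_add, pow_one] at h3
    rw [← ha, Ideal.Quotient.mk_eq_mk_iff_sub_mem]
    exact h3

end Groth.Agent.EGA41Lib
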