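import Mathlib.RingTheory.Unramified.Field
import Mathlib.RingTheory.AlgebraicIndependent.TranscendenceBasis
import Mathlib.RingTheory.AlgebraicIndependent.Adjoin
import Mathlib.RingTheory.TensorProduct.MvPolynomial
import Mathlib.RingTheory.Flat.Basic
import Mathlib.FieldTheory.Perfect
import Mathlib.LinearAlgebra.Basis.VectorSpace
import Mathlib.RingTheory.LocalProperties.Basic
import Mathlib.RingTheory.MvPolynomial.Basic
import Mathlib.Algebra.MvPolynomial.Nilpotent
import Mathlib.FieldTheory.IntermediateField.Adjoin.Basic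
import Mathlib.RingTheory.Flat.Stability

/-!
# Reducedness of tensor products over a field
-/

universe u

namespace Groth.Agent.EGA41Lib

open TensorProduct

variable {k : Type u} [Field k]

theorem eq_zero_of_sum_tmul_eq_zero {A R : Type u} [AddCommGroup A] [Module k A] [AddCommGroup R]
    [Module k R] {ι : Type u} {v : ι → A} (hv : LinearIndependent k v) (s : Finset ι) (r : ι → R)
    (h : ∑ i ∈ s, v i ⊗ₜ[k] r i = 0) : ∀ i ∈ s, r i = 0 := by
  classical
  intro j hj
  let b := Module.Basis.span hv
  obtain ⟨φ, hφ⟩ := LinearMap.exists_extend (b.coord j)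
  have hφv : ∀ i, φ (v i) = if i = j then 1 else 0 := by
    intro i
    have h1 : φ (v i) = b.coord j (b i) := by
      rw [← hφ, LinearMap.comp_apply, Submodule.subtype_apply, Module.Basis.span_apply]
    rw [h1, b.coord_apply, b.repr_self, Finsupp.single_apply]
  have h2 := congrArg (TensorProduct.lid k R ∘ φ.rTensor R) h
  simpa [hφv, ite_smul, hj] using h2

/-- If `A ⊗ M` is reduced for every field `M`, then `A ⊗ R` is reduced for every reduced `R`. -/
theorem isReduced_tensor_of_forall_field {A : Type u} [CommRing A] [Algebra k A]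
    (h : ∀ (M : Type u) [Field M] [Algebra k M], IsReduced (A ⊗[k] M))
    (R : Type u) [CommRing R] [Algebra k R] [IsReduced R] : IsReduced (A ⊗[k] R) := by
  refine ⟨fun ξ hξ => ?_⟩
  obtain ⟨⟨ι, b⟩⟩ := Module.Free.exists_basis (R := k) (M := A)
  obtain ⟨c, rfl⟩ := (TensorProduct.eq_repr_basis_left b ξ : ∃ c, _)
  have hc : ∀ i, c i = 0 := by
    intro i
    refine IsReduced.eq_zero _ ?_
    rw [← mem_nilradical, nilradical_eq_sInf, Ideal.mem_sInf]
    intro P hP
    have : P.IsPrime := hP
    let f : R →ₐ[k] FractionRing (R ⧸ P) :=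
      (IsScalarTower.toAlgHom k (R ⧸ P) (FractionRing (R ⧸ P))).comp (Ideal.Quotient.mkₐ k P)
    have h2 : Algebra.TensorProduct.map (AlgHom.id k A) f (c.sum fun i r => b i ⊗ₜ[k] r) = 0 :=
      (h (FractionRing (R ⧸ P))).eq_zero _ (hξ.map _)
    rw [Finsupp.sum, map_sum] at h2
    simp only [Algebra.TensorProduct.map_tmul, AlgHom.id_apply] at h2
    by_cases hi : i ∈ c.support
    · have h3 := eq_zero_of_sum_tmul_eq_zero b.linearIndependent _ _ h2 i hi
      exact Ideal.Quotient.eq_zero_iff_mem.1
        ((IsFractionRing.to_map_eq_zero_iff (K := FractionRing (R ⧸ P))).1 h3)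
    · rw [Finsupp.notMem_support_iff.1 hi]
      exact P.zero_mem
  simp [Finsupp.sum, hc]

theorem isReduced_tensor_of_isSeparable_field (K : Type u) [Field K] [Algebra k K]
    [Algebra.IsSeparable k K] (M : Type u) [Field M] [Algebra k M] : IsReduced (K ⊗[k] M) := by
  have h : IsReduced (M ⊗[k] K) := IsReduced.tensorProduct_of_flat_of_forall_fg fun B hB => by
    have hfin : Algebra.FiniteType k B := (Subalgebra.fg_iff_finiteType B).1 hB
    have halg : Algebra.IsAlgebraic k B := ⟨fun x =>
      (isAlgebraic_algHom_iff B.val Subtype.val_injective).1 (Algebra.IsAlgebraic.isAlgebraic (x : K))⟩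
    have hF : IsField B := Subalgebra.isField_of_algebraic B
    let : Field B := hF.toField
    have : Algebra.IsSeparable k B := Algebra.isSeparable_tower_bot_of_isSeparable k B K
    have : Algebra.FormallyUnramified k B := Algebra.FormallyUnramified.of_isSeparable k B
    have : Algebra.EssFiniteType k B := inferInstance
    exact Algebra.FormallyUnramified.isReduced_of_field M (M ⊗[k] B)
  exact isReduced_of_injective (Algebra.TensorProduct.comm k K M)
    (Algebra.TensorProduct.comm k K M).injective

theorem isReduced_tensor_of_isSeparable (K : Type u) [Field K] [Algebra k K]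
    [Algebra.IsSeparable k K] (R : Type u) [CommRing R] [Algebra k R] [IsReduced R] :
    IsReduced (K ⊗[k] R) :=
  isReduced_tensor_of_forall_field (fun M _ _ => isReduced_tensor_of_isSeparable_field K M) R

theorem isReduced_fractionRing_mvPolynomial_tensor (σ : Type u) (R : Type u) [CommRing R]
    [Algebra k R] [IsReduced R] :
    IsReduced (FractionRing (MvPolynomial σ k) ⊗[k] R) := by
  refine ⟨fun ξ hξ => ?_⟩
  let F := FractionRing (MvPolynomial σ k)
  let i : MvPolynomial σ k →ₐ[k] F := IsScalarTower.toAlgHom k _ _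
  let ι := Algebra.TensorProduct.map i (AlgHom.id k R)
  have hι : Function.Injective ι :=
    Module.Flat.rTensor_preserves_injective_linearMap i.toLinearMap
      (IsFractionRing.injective (MvPolynomial σ k) F)
  have hRσ : IsReduced (MvPolynomial σ R) := ⟨fun P hP => MvPolynomial.ext _ _ fun m => by
    rw [MvPolynomial.coeff_zero]
    exact (MvPolynomial.isNilpotent_iff.1 hP m).eq_zero⟩
  have hred : IsReduced (MvPolynomial σ k ⊗[k] R) :=
    isReduced_of_injective
      ((Algebra.TensorProduct.comm k (MvPolynomial σ k) R).trans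
        ((MvPolynomial.scalarRTensorAlgEquiv (R := k) (σ := σ) (N := R)).restrictScalars k))
      (AlgEquiv.injective _)
  have key : ∀ η : F ⊗[k] R, ∃ s : MvPolynomial σ k, s ≠ 0 ∧ (i s ⊗ₜ[k] 1) * η ∈ ι.range := by
    intro η
    induction η using TensorProduct.induction_on with
    | zero => exact ⟨1, one_ne_zero, by simp⟩
    | tmul f r =>
      obtain ⟨⟨a, s⟩, hs⟩ := IsLocalization.surj (nonZeroDivisors (MvPolynomial σ k)) f
      refine ⟨s, nonZeroDivisors.coe_ne_zero s, ⟨a ⊗ₜ[k] r, ?_⟩⟩
      show ι (a ⊗ₜ[k] r) = _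
      rw [Algebra.TensorProduct.map_tmul, AlgHom.id_apply, Algebra.TensorProduct.tmul_mul_tmul,
        one_mul, mul_comm]
      show _ = (f * algebraMap _ F (s : MvPolynomial σ k)) ⊗ₜ[k] r
      rw [hs]
      rfl
    | add η η' h h' =>
      obtain ⟨s, hs, hs'⟩ := h
      obtain ⟨t, ht, ht'⟩ := h'
      refine ⟨s * t, mul_ne_zero hs ht, ?_⟩
      have e : (i (s * t) ⊗ₜ[k] (1 : R)) = (i s ⊗ₜ[k] 1) * (i t ⊗ₜ[k] 1) := by
        rw [Algebra.TensorProduct.tmul_mul_tmul, map_mul, one_mul]
      have hmem : ∀ u : MvPolynomial σ k, (i u ⊗ₜ[k] (1 : R)) ∈ ι.range := fun u =>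
        ⟨u ⊗ₜ[k] 1, rfl⟩
      rw [mul_add, e]
      refine add_mem ?_ ?_
      · rw [mul_comm (i s ⊗ₜ[k] (1 : R)), mul_assoc]
        exact mul_mem (hmem t) hs'
      · rw [mul_assoc]
        exact mul_mem (hmem s) ht'
  obtain ⟨s, hs, η, hη⟩ := key ξ
  have hu : IsUnit (i s ⊗ₜ[k] (1 : R)) :=
    (isUnit_iff_ne_zero.2 ((map_ne_zero_iff i (IsFractionRing.injective _ F)).2 hs)).map
      (Algebra.TensorProduct.includeLeft : F →ₐ[k] F ⊗[k] R)
  have h0 : η = 0 := by
    refine IsReduced.eq_zero _ ?_
    rw [← IsNilpotent.map_iff (f := ι) hι]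
    rw [show ι η = ι.toRingHom η from rfl, hη]
    exact (Commute.all _ _).isNilpotent_mul_left hξ
  rw [h0, map_zero] at hη
  exact (hu.mul_right_eq_zero).1 hη.symm

/-- Separably generated field extensions preserve reducedness. -/
theorem isReduced_tensor_of_isSeparable_adjoin {K : Type u} [Field K] [Algebra k K] {ι : Type u}
    {v : ι → K} (hv : AlgebraicIndependent k v)
    [Algebra.IsSeparable (IntermediateField.adjoin k (Set.range v)) K]
    (R : Type u) [CommRing R] [Algebra k R] [IsReduced R] : IsReduced (K ⊗[k] R) := by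
  let F := IntermediateField.adjoin k (Set.range v)
  have := isReduced_fractionRing_mvPolynomial_tensor (k := k) ι R
  have hFR : IsReduced (F ⊗[k] R) :=
    isReduced_of_injective (Algebra.TensorProduct.congr hv.aevalEquivField.symm AlgEquiv.refl)
      (AlgEquiv.injective _)
  have := isReduced_tensor_of_isSeparable (k := F) K (F ⊗[k] R)
  exact isReduced_of_injective (Algebra.TensorProduct.cancelBaseChange k F K K R).symm
    (AlgEquiv.injective _)

theorem isReduced_tensor_of_charZero [CharZero k] (K : Type u) [Field K] [Algebra k K]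
    (R : Type u) [CommRing R] [Algebra k R] [IsReduced R] : IsReduced (K ⊗[k] R) := by
  obtain ⟨s, hs⟩ := exists_isTranscendenceBasis k K
  have : Algebra.IsAlgebraic (IntermediateField.adjoin k (Set.range (Subtype.val : s → K))) K :=
    hs.isAlgebraic_field
  have : CharZero (IntermediateField.adjoin k (Set.range (Subtype.val : s → K))) :=
    charZero_of_injective_algebraMap (R := k) (RingHom.injective _)
  exact isReduced_tensor_of_isSeparable_adjoin hs.1 R

end Groth.Agent.EGA41Lib
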