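import Groth.Agent.EGA41Lib.GeomReducedApps
import Mathlib.RingTheory.Smooth.Kaehler
import Mathlib.RingTheory.Ideal.Cotangent

/-!
# The conormal sequence of the residue field of a local ring of characteristic `p`
-/

universe u

namespace Groth.Agent.EGA41Lib

open TensorProduct IsLocalRing
open KaehlerDifferential (mapBaseChange kerCotangentToTensor)

theorem kerCotangentToTensor_injective_of_charP (p : ℕ) [hp : Fact p.Prime] (R : Type u) [CommRing R]
    [IsLocalRing R] [CharP R p] :
    Function.Injective (kerCotangentToTensor ℤ R (ResidueField R)) := by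
  let K := ResidueField R
  have hf : Function.Surjective (algebraMap R K) := residue_surjective
  have : CharP K p := (CharP.charP_iff_prime_eq_zero hp.out).2 (by
    rw [← map_natCast (residue R), CharP.cast_eq_zero, map_zero])
  let π := (IsScalarTower.toAlgHom ℤ R K).kerSquareLift
  let C := R ⧸ RingHom.ker (IsScalarTower.toAlgHom ℤ R K).toRingHom ^ 2
  let : Algebra (ZMod p) C :=
    ((Ideal.Quotient.mk _).comp (ZMod.castHom (dvd_refl p) R)).toAlgebra
  let : Algebra (ZMod p) K := (π.toRingHom.comp (algebraMap (ZMod p) C)).toAlgebra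
  have : Algebra.FormallySmooth (ZMod p) K := formallySmooth_zmod
  let q : C →ₐ[ZMod p] K := { π.toRingHom with commutes' := fun _ => rfl }
  have hq : Function.Surjective q := fun y => by
    obtain ⟨x, rfl⟩ := hf y
    exact ⟨Ideal.Quotient.mk _ x, rfl⟩
  have hnil : IsNilpotent (RingHom.ker (q : C →+* K)) := by
    refine ⟨2, ?_⟩
    rw [Ideal.zero_eq_bot]
    have := AlgHom.ker_kerSquareLift (IsScalarTower.toAlgHom ℤ R K)
    rw [← Ideal.cotangentIdeal_square (RingHom.ker (IsScalarTower.toAlgHom ℤ R K).toRingHom), ← this]
    rfl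
  let g0 := Algebra.FormallySmooth.liftOfSurjective (AlgHom.id (ZMod p) K) q hq hnil
  let g : K →ₐ[ℤ] C := g0.toRingHom.toIntAlgHom
  have hg : π.comp g = AlgHom.id ℤ K :=
    AlgHom.ext fun y => Algebra.FormallySmooth.liftOfSurjective_apply (AlgHom.id (ZMod p) K) q hq hnil y
  obtain ⟨l, hl⟩ := (retractionKerCotangentToTensorEquivSection (R := ℤ) (P := R) (S := K) hf).symm
    ⟨g, hg⟩
  exact Function.LeftInverse.injective (g := l) fun x => LinearMap.congr_fun hl x

/-- The cotangent space is the kernel of `K ⊗ Ω_R → Ω_K`. -/
theorem finrank_cotangentSpace_eq (p : ℕ) [hp : Fact p.Prime] (R : Type u) [CommRing R]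
    [IsLocalRing R] [IsNoetherianRing R] [CharP R p] :
    Module.Finite (ResidueField R) (LinearMap.ker (mapBaseChange ℤ R (ResidueField R))) ∧
      Module.finrank (ResidueField R) (LinearMap.ker (mapBaseChange ℤ R (ResidueField R))) =
        Module.finrank (ResidueField R) (CotangentSpace R) := by
  have hf : Function.Surjective (algebraMap R (ResidueField R)) := residue_surjective
  have hk : maximalIdeal R = RingHom.ker (algebraMap R (ResidueField R)) := (ker_residue (R := R)).symm
  have key : ∀ (I : Ideal R), I = RingHom.ker (algebraMap R (ResidueField R)) →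
      ∃ g : I.Cotangent →ₗ[R] ResidueField R ⊗[R] Ω[R⁄ℤ], Function.Injective g ∧
        LinearMap.range g =
          (LinearMap.ker (mapBaseChange ℤ R (ResidueField R))).restrictScalars R := by
    rintro I rfl
    exact ⟨kerCotangentToTensor ℤ R (ResidueField R), kerCotangentToTensor_injective_of_charP p R,
      KaehlerDifferential.range_kerCotangentToTensor ℤ R _ hf⟩
  obtain ⟨g, hg, hrange⟩ := key (maximalIdeal R) hk
  let g' : CotangentSpace R →ₗ[ResidueField R] ResidueField R ⊗[R] Ω[R⁄ℤ] :=
    { toFun := g
      map_add' := map_add g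
      map_smul' := fun c x => by
        obtain ⟨c, rfl⟩ := residue_surjective c
        rw [RingHom.id_apply, ← ResidueField.algebraMap_eq, algebraMap_smul, algebraMap_smul,
          map_smul] }
  have hker : LinearMap.ker (mapBaseChange ℤ R (ResidueField R)) = LinearMap.range g' := by
    ext z
    rw [← Submodule.restrictScalars_mem R, ← hrange]
    rfl
  rw [hker]
  exact ⟨inferInstance, LinearMap.finrank_range_of_inj (f := g') hg⟩

end Groth.Agent.EGA41Lib
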