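import Mathlib.LinearAlgebra.FiniteDimensional.Lemmas
import Mathlib.LinearAlgebra.TensorProduct.RightExactness
import Mathlib.RingTheory.Flat.Basic

/-!
# Linear algebra for index computations
-/

universe u v w x

namespace Groth.Agent.EGA41Lib

open Module
open scoped TensorProduct

variable {K : Type u} [Field K] {X Y Z : Type v} [AddCommGroup X] [Module K X] [AddCommGroup Y]
  [Module K Y] [AddCommGroup Z] [Module K Z]

/-- Kernel of a composite with surjective first map. -/
theorem finrank_ker_comp (a : X →ₗ[K] Y) (ha : Function.Surjective a) (u : Y →ₗ[K] Z)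
    [Module.Finite K (LinearMap.ker a)] [Module.Finite K (LinearMap.ker u)] :
    Module.Finite K (LinearMap.ker (u ∘ₗ a)) ∧
      finrank K (LinearMap.ker (u ∘ₗ a)) = finrank K (LinearMap.ker a) + finrank K (LinearMap.ker u) := by
  let g : LinearMap.ker (u ∘ₗ a) →ₗ[K] LinearMap.ker u := a.restrict fun y hy => hy
  have hg : Function.Surjective g := fun z => by
    obtain ⟨y, hy⟩ := ha z.1
    exact ⟨⟨y, by rw [LinearMap.mem_ker, LinearMap.comp_apply, hy]; exact z.2⟩, Subtype.ext hy⟩
  let i : LinearMap.ker a →ₗ[K] LinearMap.ker (u ∘ₗ a) :=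
    Submodule.inclusion (fun y (hy : a y = 0) => show u (a y) = 0 by rw [hy, map_zero])
  have hi : Function.Injective i := Submodule.inclusion_injective _
  have hker : LinearMap.ker g = LinearMap.range i := by
    ext y
    constructor
    · intro hy
      exact ⟨⟨y.1, congrArg Subtype.val (LinearMap.mem_ker.1 hy)⟩, rfl⟩
    · rintro ⟨z, rfl⟩
      exact Subtype.ext z.2
  have : Module.Finite K (LinearMap.ker g) := hker ▸ inferInstance
  have : Module.Finite K (LinearMap.ker (u ∘ₗ a) ⧸ LinearMap.ker g) :=
    Module.Finite.equiv (g.quotKerEquivOfSurjective hg).symm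
  have : Module.Finite K (LinearMap.ker (u ∘ₗ a)) :=
    Module.Finite.of_submodule_quotient (R := K) (N := LinearMap.ker g)
  refine ⟨this, ?_⟩
  have h := g.finrank_range_add_finrank_ker
  rw [LinearMap.range_eq_top.2 hg, finrank_top, hker, LinearMap.finrank_range_of_inj hi] at h
  omega

/-- Kernel of `(x, v) ↦ f x + τ v` when the images span. -/
theorem finrank_ker_coprod {V : Type w} [AddCommGroup V] [Module K V] [Module.Finite K V]
    (f : X →ₗ[K] Z) (τ : V →ₗ[K] Z) [Module.Finite K (LinearMap.ker f)]
    (hsup : LinearMap.range f ⊔ LinearMap.range τ = ⊤) :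
    Module.Finite K (LinearMap.ker (f.coprod τ)) ∧
      finrank K (LinearMap.ker (f.coprod τ)) + finrank K (Z ⧸ LinearMap.range f) =
        finrank K (LinearMap.ker f) + finrank K V := by
  let q := (LinearMap.range f).mkQ ∘ₗ τ
  have hq : Function.Surjective q := fun z => by
    obtain ⟨z, rfl⟩ := (LinearMap.range f).mkQ_surjective z
    obtain ⟨z₁, h₁, z₂, ⟨v, rfl⟩, rfl⟩ := Submodule.mem_sup.1 (hsup.ge (Submodule.mem_top (x := z)))
    exact ⟨v, by simp [q, (Submodule.Quotient.mk_eq_zero _).2 h₁]⟩
  let g : LinearMap.ker (f.coprod τ) →ₗ[K] LinearMap.ker q :=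
    LinearMap.codRestrict _ ((LinearMap.snd K X V).comp (LinearMap.ker (f.coprod τ)).subtype)
      fun y => by
      have hy : f y.1.1 + τ y.1.2 = 0 := y.2
      show Submodule.Quotient.mk (τ y.1.2) = 0
      rw [Submodule.Quotient.mk_eq_zero, eq_neg_of_add_eq_zero_right hy]
      exact Submodule.neg_mem _ ⟨_, rfl⟩
  have hg : Function.Surjective g := fun v => by
    obtain ⟨x', hx⟩ := (Submodule.Quotient.mk_eq_zero _).1 (v.2 : Submodule.Quotient.mk (τ v.1) = 0)
    exact ⟨⟨(-x', v.1), by simp [hx]⟩, rfl⟩
  let i : LinearMap.ker f →ₗ[K] LinearMap.ker (f.coprod τ) :=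
    LinearMap.codRestrict _ ((LinearMap.inl K X V).comp (LinearMap.ker f).subtype)
      fun y => by simp
  have hi : Function.Injective i := fun y z h =>
    Subtype.ext (congrArg Prod.fst (congrArg Subtype.val h))
  have hker : LinearMap.ker g = LinearMap.range i := by
    ext ⟨⟨y, v⟩, hy⟩
    have hy' : f y + τ v = 0 := hy
    constructor
    · intro h
      have hv : v = 0 := congrArg Subtype.val (LinearMap.mem_ker.1 h)
      subst hv
      exact ⟨⟨y, by simpa using hy'⟩, rfl⟩
    · rintro ⟨z, hz⟩
      rw [← hz]
      exact Subtype.ext rfl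
  have : Module.Finite K (LinearMap.ker g) := hker ▸ inferInstance
  have : Module.Finite K (LinearMap.ker (f.coprod τ) ⧸ LinearMap.ker g) :=
    Module.Finite.equiv (g.quotKerEquivOfSurjective hg).symm
  have : Module.Finite K (LinearMap.ker (f.coprod τ)) :=
    Module.Finite.of_submodule_quotient (R := K) (N := LinearMap.ker g)
  refine ⟨this, ?_⟩
  have h1 := g.finrank_range_add_finrank_ker
  rw [LinearMap.range_eq_top.2 hg, finrank_top, hker, LinearMap.finrank_range_of_inj hi] at h1
  have h2 := q.finrank_range_add_finrank_ker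
  rw [LinearMap.range_eq_top.2 hq, finrank_top] at h2
  omega

/-- Kernels commute with extension of the ground field. -/
theorem finrank_ker_baseChange {X Y : Type v} [AddCommGroup X] [Module K X] [AddCommGroup Y]
    [Module K Y] {L : Type w} [Field L] [Algebra K L] (f : X →ₗ[K] Y)
    [Module.Finite K (LinearMap.ker f)] :
    Module.Finite L (LinearMap.ker (f.baseChange L)) ∧
      finrank L (LinearMap.ker (f.baseChange L)) = finrank K (LinearMap.ker f) := by
  let i := (LinearMap.ker f).subtype.baseChange L
  have hi : Function.Injective i :=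
    Module.Flat.lTensor_preserves_injective_linearMap _ Subtype.val_injective
  have hker : LinearMap.ker (f.baseChange L) = LinearMap.range i :=
    SetLike.ext fun z => Module.Flat.lTensor_exact L (LinearMap.exact_subtype_ker_map f) z
  rw [hker]
  refine ⟨inferInstance, ?_⟩
  rw [LinearMap.finrank_range_of_inj hi, Module.finrank_baseChange]

end Groth.Agent.EGA41Lib
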