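import Groth.Agent.EGA41Lib.RootField
import Groth.Agent.EGA41Lib.RootLinAlg
import Groth.Agent.EGA41Lib.Separable
import Mathlib.FieldTheory.FinTrdeg
import Mathlib.RingTheory.Smooth.Field
import Mathlib.RingTheory.Etale.Kaehler
import Mathlib.RingTheory.Kaehler.Polynomial
import Mathlib.FieldTheory.SeparableClosure
import Mathlib.FieldTheory.PurelyInseparable.Basic

/-!
# The index of `L ⊗_K Ω_K → Ω_L` (Cartier's equality)
-/

universe u v w

namespace Groth.Agent.EGA41Lib

open TensorProduct
open KaehlerDifferential (D mapBaseChange)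

section Index

variable {K : Type u} [Field K] {X Y Z : Type v} [AddCommGroup X] [Module K X] [AddCommGroup Y]
  [Module K Y] [AddCommGroup Z] [Module K Z]

/-- `f` has finite kernel and cokernel, and `dim coker - dim ker = n`. -/
def HasIndex (f : X →ₗ[K] Y) (n : ℤ) : Prop :=
  Module.Finite K (LinearMap.ker f) ∧ Module.Finite K (Y ⧸ LinearMap.range f) ∧
    (Module.finrank K (Y ⧸ LinearMap.range f) : ℤ) - Module.finrank K (LinearMap.ker f) = n

theorem HasIndex.comp {f : X →ₗ[K] Y} {g : Y →ₗ[K] Z} {m n : ℤ} (hf : HasIndex f m)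
    (hg : HasIndex g n) : HasIndex (g ∘ₗ f) (m + n) := by
  obtain ⟨hfk, hfc, hm⟩ := hf
  obtain ⟨hgk, hgc, hn⟩ := hg
  let a : LinearMap.ker (g ∘ₗ f) →ₗ[K] LinearMap.ker g := f.restrict fun y hy => hy
  let δ : LinearMap.ker g →ₗ[K] Y ⧸ LinearMap.range f :=
    (LinearMap.range f).mkQ ∘ₗ (LinearMap.ker g).subtype
  have hle : LinearMap.range f ≤ (LinearMap.range (g ∘ₗ f)).comap g := by
    rintro _ ⟨x, rfl⟩
    exact ⟨x, rfl⟩
  let b : Y ⧸ LinearMap.range f →ₗ[K] Z ⧸ LinearMap.range (g ∘ₗ f) :=
    Submodule.mapQ _ _ g hle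
  let c : Z ⧸ LinearMap.range (g ∘ₗ f) →ₗ[K] Z ⧸ LinearMap.range g :=
    Submodule.factor (LinearMap.range_comp_le_range f g)
  have hc : Function.Surjective c := Submodule.factor_surjective _
  have hra : LinearMap.range a = LinearMap.ker δ := by
    ext y
    constructor
    · rintro ⟨x, rfl⟩
      exact (Submodule.Quotient.mk_eq_zero _).2 ⟨x.1, rfl⟩
    · intro hy
      obtain ⟨x, hx⟩ := (Submodule.Quotient.mk_eq_zero _).1
        (LinearMap.mem_ker.1 hy : Submodule.Quotient.mk (p := LinearMap.range f) y.1 = 0)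
      exact ⟨⟨x, by rw [LinearMap.mem_ker, LinearMap.comp_apply, hx]; exact y.2⟩, Subtype.ext hx⟩
  have hrb : LinearMap.range δ = LinearMap.ker b := by
    ext y
    obtain ⟨y, rfl⟩ := (LinearMap.range f).mkQ_surjective y
    constructor
    · rintro ⟨w, hw⟩
      rw [← hw, LinearMap.mem_ker]
      show Submodule.Quotient.mk (g w.1) = 0
      rw [LinearMap.mem_ker.1 w.2, Submodule.Quotient.mk_zero]
    · intro hy
      obtain ⟨x, hx⟩ := (Submodule.Quotient.mk_eq_zero _).1
        (LinearMap.mem_ker.1 hy :
          Submodule.Quotient.mk (p := LinearMap.range (g ∘ₗ f)) (g y) = 0)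
      refine ⟨⟨y - f x, by
        rw [LinearMap.mem_ker, map_sub, ← hx, LinearMap.comp_apply, sub_self]⟩, ?_⟩
      show Submodule.Quotient.mk (y - f x) = Submodule.Quotient.mk y
      rw [Submodule.Quotient.eq]
      exact ⟨-x, by simp⟩
  have hrc : LinearMap.range b = LinearMap.ker c := by
    ext z
    obtain ⟨z, rfl⟩ := (LinearMap.range (g ∘ₗ f)).mkQ_surjective z
    constructor
    · rintro ⟨y, hy⟩
      obtain ⟨y, rfl⟩ := (LinearMap.range f).mkQ_surjective y
      rw [← hy, LinearMap.mem_ker]
      exact (Submodule.Quotient.mk_eq_zero _).2 ⟨y, rfl⟩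
    · intro hz
      obtain ⟨y, rfl⟩ := (Submodule.Quotient.mk_eq_zero _).1
        (LinearMap.mem_ker.1 hz : Submodule.Quotient.mk (p := LinearMap.range g) z = 0)
      exact ⟨Submodule.Quotient.mk y, rfl⟩
  let i : LinearMap.ker f →ₗ[K] LinearMap.ker (g ∘ₗ f) :=
    Submodule.inclusion (fun y (hy : f y = 0) => show g (f y) = 0 by rw [hy, map_zero])
  have hi : Function.Injective i := Submodule.inclusion_injective _
  have hka : LinearMap.ker a = LinearMap.range i := by
    ext y
    constructor
    · intro hy
      exact ⟨⟨y.1, congrArg Subtype.val (LinearMap.mem_ker.1 hy)⟩, rfl⟩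
    · rintro ⟨z, rfl⟩
      exact Subtype.ext z.2
  have : Module.Finite K (LinearMap.ker a) := hka ▸ inferInstance
  have : Module.Finite K (LinearMap.ker (g ∘ₗ f) ⧸ LinearMap.ker a) :=
    Module.Finite.equiv a.quotKerEquivRange.symm
  have hk : Module.Finite K (LinearMap.ker (g ∘ₗ f)) :=
    Module.Finite.of_submodule_quotient (R := K) (N := LinearMap.ker a)
  have : Module.Finite K (LinearMap.ker c) := hrc ▸ inferInstance
  have : Module.Finite K ((Z ⧸ LinearMap.range (g ∘ₗ f)) ⧸ LinearMap.ker c) :=
    Module.Finite.equiv (c.quotKerEquivOfSurjective hc).symm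
  have hco : Module.Finite K (Z ⧸ LinearMap.range (g ∘ₗ f)) :=
    Module.Finite.of_submodule_quotient (R := K) (N := LinearMap.ker c)
  refine ⟨hk, hco, ?_⟩
  have h1 := a.finrank_range_add_finrank_ker
  have h2 := δ.finrank_range_add_finrank_ker
  have h3 := b.finrank_range_add_finrank_ker
  have h4 := c.finrank_range_add_finrank_ker
  rw [hra, hka, LinearMap.finrank_range_of_inj hi] at h1
  rw [hrb] at h2
  rw [hrc] at h3
  rw [LinearMap.range_eq_top.2 hc, finrank_top] at h4
  omega

theorem HasIndex.comp_linearEquiv {f : Y →ₗ[K] Z} {n : ℤ} (hf : HasIndex f n) (e : X ≃ₗ[K] Y) :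
    HasIndex (f ∘ₗ e.toLinearMap) n := by
  have h : HasIndex e.toLinearMap 0 := by
    have h1 : LinearMap.ker e.toLinearMap = ⊥ := LinearEquiv.ker e
    have h2 : LinearMap.range e.toLinearMap = ⊤ := LinearEquiv.range e
    have : Subsingleton (Y ⧸ LinearMap.range e.toLinearMap) := by
      rw [h2]; infer_instance
    refine ⟨h1 ▸ inferInstance, inferInstance, ?_⟩
    rw [Module.finrank_zero_of_subsingleton, h1, finrank_bot]
    rfl
  simpa using h.comp hf

end Index

section Fields

variable (K L : Type u) [Field K] [Field L] [Algebra K L]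

/-- Finiteness of `Ω_{L/K}` and of `Υ_{L/K}`, with `dim Ω - dim Υ = n`. -/
def FieldIdx (n : ℤ) : Prop :=
  Module.Finite L (LinearMap.ker (mapBaseChange ℤ K L)) ∧ Module.Finite L (Ω[L⁄K]) ∧
    (Module.finrank L (Ω[L⁄K]) : ℤ) - Module.finrank L (LinearMap.ker (mapBaseChange ℤ K L)) = n

/-- The cokernel of `L ⊗ Ω_K → Ω_L` is `Ω_{L/K}`. -/
noncomputable def cokerEquiv :
    (Ω[L⁄ℤ] ⧸ LinearMap.range (mapBaseChange ℤ K L)) ≃ₗ[L] Ω[L⁄K] :=
  (Submodule.quotEquivOfEq _ _
    (LinearMap.exact_iff.1 (KaehlerDifferential.exact_mapBaseChange_map ℤ K L)).symm).trans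
    (LinearMap.quotKerEquivOfSurjective _ (KaehlerDifferential.map_surjective ℤ K L))

theorem fieldIdx_iff (n : ℤ) : FieldIdx K L n ↔ HasIndex (mapBaseChange ℤ K L) n := by
  constructor
  · rintro ⟨h1, h2, h3⟩
    exact ⟨h1, Module.Finite.equiv (cokerEquiv K L).symm,
      by rw [(cokerEquiv K L).finrank_eq]; exact h3⟩
  · rintro ⟨h1, h2, h3⟩
    exact ⟨h1, Module.Finite.equiv (cokerEquiv K L), by rw [← (cokerEquiv K L).finrank_eq]; exact h3⟩

variable {K L}

/-- The index is additive in towers. -/
theorem FieldIdx.trans {M : Type u} [Field M] [Algebra K M] [Algebra M L] [IsScalarTower K M L]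
    {m n : ℤ} (hm : FieldIdx K M m) (hn : FieldIdx M L n) : FieldIdx K L (m + n) := by
  rw [fieldIdx_iff] at hn ⊢
  obtain ⟨h1, h2, h3⟩ := hm
  obtain ⟨hk, hkr⟩ := finrank_ker_baseChange (L := L) (mapBaseChange ℤ K M)
  let ρ := (KaehlerDifferential.map ℤ K M M).baseChange L
  have hρ : Function.Surjective ρ :=
    LinearMap.lTensor_surjective L (KaehlerDifferential.map_surjective ℤ K M)
  have hρk : LinearMap.ker ρ = LinearMap.range ((mapBaseChange ℤ K M).baseChange L) :=
    SetLike.ext fun z => lTensor_exact L (KaehlerDifferential.exact_mapBaseChange_map ℤ K M)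
      (KaehlerDifferential.map_surjective ℤ K M) z
  let e := (Submodule.quotEquivOfEq _ _ hρk.symm).trans (LinearMap.quotKerEquivOfSurjective ρ hρ)
  have hb : HasIndex ((mapBaseChange ℤ K M).baseChange L) m :=
    ⟨hk, Module.Finite.equiv e.symm, by rw [hkr, e.finrank_eq, Module.finrank_baseChange]; exact h3⟩
  let iso := (AlgebraTensorModule.cancelBaseChange K M L L (Ω[K⁄ℤ])).symm
  have heq : mapBaseChange ℤ K L =
      (mapBaseChange ℤ M L ∘ₗ (mapBaseChange ℤ K M).baseChange L) ∘ₗ iso.toLinearMap := by
    refine TensorProduct.AlgebraTensorModule.curry_injective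
      (LinearMap.ext_ring (LinearMap.ext_on (KaehlerDifferential.span_range_derivation ℤ K) ?_))
    rintro _ ⟨a, rfl⟩
    simp [iso, ← IsScalarTower.algebraMap_apply]
  rw [heq]
  exact (hb.comp hn).comp_linearEquiv iso

theorem fieldIdx_of_injective (hinj : Function.Injective (mapBaseChange ℤ K L))
    [Module.Finite L (Ω[L⁄K])] : FieldIdx K L (Module.finrank L (Ω[L⁄K])) := by
  have h : LinearMap.ker (mapBaseChange ℤ K L) = ⊥ := LinearMap.ker_eq_bot.2 hinj
  refine ⟨h ▸ inferInstance, inferInstance, ?_⟩
  rw [h, finrank_bot]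
  simp

theorem fieldIdx_of_formallySmooth [Algebra.FormallySmooth K L] [Module.Finite L (Ω[L⁄K])] :
    FieldIdx K L (Module.finrank L (Ω[L⁄K])) :=
  fieldIdx_of_injective injective_of_formallySmooth

theorem fieldIdx_of_isSeparable [Algebra.IsSeparable K L] [Algebra.EssFiniteType K L] :
    FieldIdx K L 0 := by
  have : Algebra.FormallyEtale K L := Algebra.FormallyEtale.of_isSeparable K L
  have h := fieldIdx_of_injective (K := K) (L := L)
    (KaehlerDifferential.tensorKaehlerEquivOfFormallyEtale ℤ K L).injective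
  rwa [Module.finrank_zero_of_subsingleton, Nat.cast_zero] at h

theorem fieldIdx_of_height_one (p : ℕ) [Fact p.Prime] [CharP L p] {ι : Type*} [Finite ι] (t : ι → L)
    (hgen : Algebra.adjoin K (Set.range t) = ⊤)
    (hpow : ∀ y : L, y ^ p ∈ Set.range (algebraMap K L)) : FieldIdx K L 0 := by
  obtain ⟨h1, h2, h3⟩ := finrank_ker_mapBaseChange_roots t hgen hpow
  exact ⟨h1, h2, by rw [h3]; exact sub_self _⟩

theorem fieldIdx_of_isPurelyInseparable (p : ℕ) [Fact p.Prime] [CharP K p] [FiniteDimensional K L]
    [IsPurelyInseparable K L] : FieldIdx K L 0 := by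
  induction hd : Module.finrank K L using Nat.strong_induction_on generalizing K with
  | _ d ih =>
    have : CharP L p := charP_of_injective_algebraMap (RingHom.injective (algebraMap K L)) p
    have : ExpChar K p := .prime Fact.out
    by_cases hbot : ∀ y : L, y ∈ Set.range (algebraMap K L)
    · exact fieldIdx_of_height_one p (fun e : Empty => e.elim)
        (eq_top_iff.2 fun y _ => by
          obtain ⟨c, rfl⟩ := hbot y
          exact Subalgebra.algebraMap_mem _ c)
        (fun y => hbot _)
    · rw [not_forall] at hbot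
      obtain ⟨y, hy⟩ := hbot
      classical
      have hex := IsPurelyInseparable.pow_mem K p y
      let n := Nat.find hex
      have hn : n ≠ 0 := fun h => hy (by
        have := Nat.find_spec hex
        rw [show Nat.find hex = 0 from h, pow_zero, pow_one] at this
        exact this)
      let x := y ^ p ^ (n - 1)
      have hx : x ∉ Set.range (algebraMap K L) := fun h => Nat.find_min hex (m := n - 1)
        (Nat.sub_one_lt hn) h
      have hxp : x ^ p ∈ (algebraMap K L).range := by
        rw [← pow_mul, ← pow_succ, Nat.sub_one_add_one hn]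
        exact Nat.find_spec hex
      let M : IntermediateField K L := IntermediateField.adjoin K {x}
      have hxM : x ∈ M := IntermediateField.mem_adjoin_simple_self K x
      have hgen : Algebra.adjoin K (Set.range fun _ : Unit => (⟨x, hxM⟩ : M)) = ⊤ := by
        rw [Set.range_const]
        refine Subalgebra.map_injective (f := M.val) M.val.injective ?_
        rw [AlgHom.map_adjoin, Set.image_singleton, Algebra.map_top]
        show Algebra.adjoin K {x} = M.val.range
        rw [IntermediateField.range_val]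
        exact (IntermediateField.adjoin_simple_toSubalgebra_of_isAlgebraic
          (Algebra.IsAlgebraic.isAlgebraic x)).symm
      have : CharP M p := charP_of_injective_algebraMap (RingHom.injective (algebraMap K M)) p
      have hpow : ∀ z : M, z ^ p ∈ Set.range (algebraMap K M) := fun z => by
        have hz : z ∈ Algebra.adjoin K (Set.range fun _ : Unit => (⟨x, hxM⟩ : M)) := by
          rw [hgen]; trivial
        show z ^ p ∈ (algebraMap K M).range
        induction hz using Algebra.adjoin_induction with
        | mem w hw =>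
          obtain ⟨_, rfl⟩ := hw
          obtain ⟨c, hc⟩ := hxp
          exact ⟨c, Subtype.ext hc⟩
        | algebraMap r => exact ⟨r ^ p, map_pow _ _ _⟩
        | add _ _ _ _ h1 h2 => rw [add_pow_char]; exact add_mem h1 h2
        | mul _ _ _ _ h1 h2 => rw [mul_pow]; exact mul_mem h1 h2
      have hlt : Module.finrank M L < d := by
        rw [← hd, ← Module.finrank_mul_finrank K M L]
        refine lt_mul_of_one_lt_left Module.finrank_pos ?_
        by_contra hle
        have h1 : Module.finrank K M = 1 := le_antisymm (not_lt.1 hle) Module.finrank_pos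
        have : x ∈ (⊥ : IntermediateField K L) :=
          IntermediateField.finrank_eq_one_iff.1 h1 ▸ hxM
        exact hx (IntermediateField.mem_bot.1 this)
      have : IsPurelyInseparable M L := IsPurelyInseparable.tower_top K M L
      have h := (fieldIdx_of_height_one (K := K) p (fun _ : Unit => (⟨x, hxM⟩ : M)) hgen hpow).trans
        (ih _ hlt (K := M) rfl)
      simpa using h

theorem fieldIdx_of_finite [FiniteDimensional K L] : FieldIdx K L 0 := by
  obtain _ | ⟨p, hp, hpK⟩ := CharP.exists' K
  · exact fieldIdx_of_isSeparable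
  · let E := separableClosure K L
    have : CharP E p := charP_of_injective_algebraMap (RingHom.injective (algebraMap K E)) p
    have h1 : FieldIdx K E 0 := fieldIdx_of_isSeparable
    have h2 : FieldIdx E L 0 := fieldIdx_of_isPurelyInseparable p
    simpa using h1.trans h2

/-- Cartier's equality. -/
theorem fieldIdx_trdeg [Algebra.EssFiniteType K L] :
    FieldIdx K L (Cardinal.toNat (Algebra.trdeg K L)) := by
  classical
  obtain ⟨s, hs⟩ := exists_isTranscendenceBasis K L
  have : Finite s := finite_of_isTranscendenceBasis hs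
  have : Fintype s := Fintype.ofFinite s
  let P := MvPolynomial s K
  let F' := FractionRing P
  let e := hs.1.aevalEquivField
  let E := IntermediateField.adjoin K (Set.range ((↑) : s → L))
  let : Algebra F' L := (E.val.comp e.toAlgHom).toRingHom.toAlgebra
  have : IsScalarTower K F' L :=
    IsScalarTower.of_algebraMap_eq fun c => ((E.val.comp e.toAlgHom).commutes c).symm
  have : Algebra.EssFiniteType F' L := Algebra.EssFiniteType.of_comp K F' L
  have halgE : Algebra.IsAlgebraic E L := hs.isAlgebraic_field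
  have : Algebra.IsAlgebraic F' L := Algebra.IsAlgebraic.of_ringHom_of_comp_eq
    (e : F' →+* E) (RingHom.id L) e.surjective Function.injective_id (by ext; rfl)
  have : FiniteDimensional F' L := Algebra.finite_of_essFiniteType_of_isAlgebraic
  have h2 : FieldIdx F' L 0 := fieldIdx_of_finite
  have : Algebra.FormallyEtale P F' := Algebra.FormallyEtale.of_isLocalization (nonZeroDivisors P)
  have : Algebra.FormallySmooth K F' := Algebra.FormallySmooth.comp K P F'
  let b := ((KaehlerDifferential.mvPolynomialBasis K s).baseChange F').map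
    (KaehlerDifferential.tensorKaehlerEquivOfFormallyEtale K P F')
  have : Module.Finite F' (Ω[F'⁄K]) := Module.Finite.of_basis b
  have h1 := fieldIdx_of_formallySmooth (K := K) (L := F')
  have h := h1.trans h2
  rw [add_zero, Module.finrank_eq_card_basis b] at h
  rwa [← hs.cardinalMk_eq_trdeg, Cardinal.mk_fintype, Cardinal.toNat_natCast]

/-- `Υ_{L/K/k}` is a quotient of `Υ_{L/K}`. -/
theorem imperfection_le (k : Type u) [Field k] [Algebra k K] [Algebra k L] [IsScalarTower k K L]
    [hf : Module.Finite L (LinearMap.ker (mapBaseChange ℤ K L))] :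
    Module.Finite L (LinearMap.ker (mapBaseChange k K L)) ∧
      Module.finrank L (LinearMap.ker (mapBaseChange k K L)) ≤
        Module.finrank L (LinearMap.ker (mapBaseChange ℤ K L)) := by
  let π := (KaehlerDifferential.map ℤ k K K).baseChange L
  let u₀ := mapBaseChange ℤ K L
  let u := mapBaseChange k K L
  let ν := KaehlerDifferential.map ℤ k L L
  have hsq : ∀ z, u (π z) = ν (u₀ z) := by
    intro z
    refine LinearMap.congr_fun (f := u ∘ₗ π) (g := ν ∘ₗ u₀) ?_ z
    refine TensorProduct.AlgebraTensorModule.curry_injective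
      (LinearMap.ext_ring (LinearMap.ext_on (KaehlerDifferential.span_range_derivation ℤ K) ?_))
    rintro _ ⟨a, rfl⟩
    simp [π, u₀, u, ν]
  let g : LinearMap.ker u₀ →ₗ[L] LinearMap.ker u := π.restrict fun z hz => by
    rw [LinearMap.mem_ker, hsq, LinearMap.mem_ker.1 hz, map_zero]
  have hπ : Function.Surjective π :=
    LinearMap.lTensor_surjective L (KaehlerDifferential.map_surjective ℤ k K)
  have hg : Function.Surjective g := by
    rintro ⟨y, hy⟩
    obtain ⟨z, rfl⟩ := hπ y
    have h1 : u₀ z ∈ LinearMap.ker ν := by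
      rw [LinearMap.mem_ker, ← hsq]
      exact LinearMap.mem_ker.1 hy
    rw [LinearMap.exact_iff.1 (KaehlerDifferential.exact_mapBaseChange_map ℤ k L)] at h1
    obtain ⟨w, hw⟩ := h1
    let κ : L ⊗[k] Ω[k⁄ℤ] →ₗ[L] L ⊗[K] Ω[K⁄ℤ] :=
      ((mapBaseChange ℤ k K).baseChange L) ∘ₗ
        (AlgebraTensorModule.cancelBaseChange k K L L (Ω[k⁄ℤ])).symm.toLinearMap
    have hκu : ∀ w, u₀ (κ w) = mapBaseChange ℤ k L w := by
      intro w
      refine LinearMap.congr_fun (f := u₀ ∘ₗ κ) ?_ w
      refine TensorProduct.AlgebraTensorModule.curry_injective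
        (LinearMap.ext_ring (LinearMap.ext_on (KaehlerDifferential.span_range_derivation ℤ k) ?_))
      rintro _ ⟨a, rfl⟩
      simp [u₀, κ, ← IsScalarTower.algebraMap_apply]
    have hκπ : ∀ w, π (κ w) = 0 := by
      intro w
      refine LinearMap.congr_fun (f := π ∘ₗ κ) (g := 0) ?_ w
      refine TensorProduct.AlgebraTensorModule.curry_injective
        (LinearMap.ext_ring (LinearMap.ext_on (KaehlerDifferential.span_range_derivation ℤ k) ?_))
      rintro _ ⟨a, rfl⟩
      simp [π, κ]
    refine ⟨⟨z - κ w, ?_⟩, Subtype.ext ?_⟩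
    · rw [LinearMap.mem_ker, map_sub, hκu, hw, sub_self]
    · show π (z - κ w) = π z
      rw [map_sub, hκπ, sub_zero]
  exact ⟨Module.Finite.of_surjective g hg, LinearMap.finrank_le_finrank_of_surjective hg⟩

end Fields

end Groth.Agent.EGA41Lib
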