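import Groth.Agent.EGA41Lib.Separable
import Mathlib.RingTheory.MvPowerSeries.Expand
import Mathlib.RingTheory.Localization.FractionRing

/-!
# Applications: functions, power series, lifting
-/

universe u v

namespace Groth.Agent.EGA41Lib

open TensorProduct

variable {p : ℕ} [hp : Fact p.Prime] {k : Type u} [Field k] [CharP k p]

/-- Frobenius preserves linear independence of families of functions. -/
theorem linearIndependent_pow_pi {I : Type v} {ι : Type u} (c : ι → I → k)
    (hc : LinearIndependent k c) : LinearIndependent k (fun i m => c i m ^ p) := by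
  classical
  rw [linearIndependent_iff']
  intro s a ha i hi
  -- the rows span everything
  let row : I → (s → k) := fun m j => c j m
  have hspan : Submodule.span k (Set.range row) = ⊤ := by
    rw [← Subspace.dualAnnihilator_inj, Submodule.dualAnnihilator_top, Submodule.eq_bot_iff]
    intro φ hφ
    rw [Submodule.mem_dualAnnihilator] at hφ
    have hφ' : ∀ w, φ w = ∑ j, w j * φ (fun l => if l = j then 1 else 0) := fun w => by
      rw [← LinearMap.pi_apply_eq_sum_univ φ w |>.symm]
      simp [smul_eq_mul, eq_comm]
    have h0 : ∑ j : s, φ (fun l => if l = j then 1 else 0) • c j = 0 := funext fun m => by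
      have := hφ (row m) (Submodule.subset_span ⟨m, rfl⟩)
      rw [hφ'] at this
      simpa [row, mul_comm] using this
    have h1 := Fintype.linearIndependent_iff.1 (hc.comp _ Subtype.val_injective) _ h0
    exact LinearMap.ext fun w => by rw [hφ' w]; simp [h1]
  have hmem : ∀ w : s → k, ∑ j : s, a j * w j ^ p = 0 := by
    intro w
    have hw : w ∈ Submodule.span k (Set.range row) := hspan ▸ Submodule.mem_top
    induction hw using Submodule.span_induction with
    | mem w hw =>
      obtain ⟨m, rfl⟩ := hw
      have h2 : ∑ j ∈ s, a j * c j m ^ p = 0 := by simpa using congrFun ha m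
      rw [← h2, ← Finset.sum_coe_sort s]
    | zero => simp [hp.out.ne_zero]
    | add w w' _ _ h h' =>
      simp only [Pi.add_apply, add_pow_char, mul_add, Finset.sum_add_distrib, h, h', add_zero]
    | smul r w _ h =>
      simp only [Pi.smul_apply, smul_eq_mul, mul_pow, mul_left_comm (a _), ← Finset.mul_sum, h,
        mul_zero]
  simpa [Pi.single_apply, hp.out.ne_zero] using hmem (Pi.single ⟨i, hi⟩ 1)

theorem coeff_smul_pow_char {σ : Type v} [Finite σ] (f : MvPowerSeries σ k) (m : σ →₀ ℕ) :
    MvPowerSeries.coeff (p • m) (f ^ p) = MvPowerSeries.coeff m f ^ p := by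
  have := ExpChar.prime (R := k) hp.out
  rw [← MvPowerSeries.map_frobenius_expand p hp.out.ne_zero (f := f)]
  rw [MvPowerSeries.coeff_map, MvPowerSeries.coeff_expand_smul]
  rfl

theorem frobLI_mvPowerSeries {σ : Type} [Finite σ] : FrobLI p k (MvPowerSeries σ k) := by
  intro ι c hc
  let L : MvPowerSeries σ k →ₗ[k] ((σ →₀ ℕ) → k) := LinearMap.pi MvPowerSeries.coeff
  have hL : LinearMap.ker L = ⊥ := by
    rw [Submodule.eq_bot_iff]
    intro f hf
    exact MvPowerSeries.ext fun m => by simpa [L] using congrFun (LinearMap.mem_ker.1 hf) m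
  have h2 := linearIndependent_pow_pi (p := p) _ (hc.map' L hL)
  let L' : MvPowerSeries σ k →ₗ[k] ((σ →₀ ℕ) → k) :=
    LinearMap.pi fun m => MvPowerSeries.coeff (p • m)
  refine LinearIndependent.of_comp L' ?_
  refine (Eq.mp ?_ h2 :)
  congr 1
  funext i m
  exact (coeff_smul_pow_char (c i) m).symm

omit [CharP k p] hp in
theorem FrobLI.of_isFractionRing {R K : Type u} [CommRing R] [IsDomain R] [Algebra k R] [Field K]
    [Algebra k K] [Algebra R K] [IsFractionRing R K] [IsScalarTower k R K] (h : FrobLI p k R) :
    FrobLI p k K := by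
  classical
  intro ι c hc
  rw [linearIndependent_iff']
  intro s a ha
  obtain ⟨d, hd⟩ := IsLocalization.exist_integer_multiples (nonZeroDivisors R) s c
  choose r hr using hd
  have hd0 : algebraMap R K d ≠ 0 :=
    (map_ne_zero_iff _ (IsFractionRing.injective R K)).2 (nonZeroDivisors.coe_ne_zero d)
  let r' : s → R := fun i => r i i.2
  have hr' : ∀ i : s, algebraMap R K (r' i) = algebraMap R K d * c i := fun i => by
    rw [hr i i.2, Algebra.smul_def]
  have hli : LinearIndependent k r' := by
    refine LinearIndependent.of_comp (IsScalarTower.toAlgHom k R K).toLinearMap ?_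
    have h1 := (hc.comp _ (Subtype.val_injective (p := (· ∈ s)))).map'
      (LinearMap.mulLeft k (algebraMap R K d)) (LinearMap.ker_eq_bot.2 fun x y hxy =>
        mul_left_cancel₀ hd0 hxy)
    refine (Eq.mp ?_ h1 :)
    congr 1
    funext i
    exact (hr' i).symm
  have h0 : ∑ i : s, a i • r' i ^ p = 0 := by
    apply IsFractionRing.injective R K
    rw [map_sum, map_zero]
    calc ∑ i : s, algebraMap R K (a i • r' i ^ p)
        = algebraMap R K d ^ p * ∑ i : s, a i • c i ^ p := by
          rw [Finset.mul_sum]
          exact Finset.sum_congr rfl fun i _ => by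
            rw [Algebra.smul_def, map_mul, ← IsScalarTower.algebraMap_apply, ← Algebra.smul_def, map_pow, hr',
              mul_pow, mul_smul_comm]
      _ = 0 := by rw [Finset.sum_coe_sort s (fun i => a i • c i ^ p), ha, mul_zero]
  intro i hi
  exact Fintype.linearIndependent_iff.1 (h r' hli) _ h0 ⟨i, hi⟩

omit [CharP k p] in
/-- Absolute formal smoothness of fields of characteristic `p`. -/
theorem formallySmooth_zmod {K : Type u} [Field K] [CharP K p] [Algebra (ZMod p) K] :
    Algebra.FormallySmooth (ZMod p) K := by
  have : PerfectRing (ZMod p) p := PerfectRing.ofFiniteOfIsReduced p (ZMod p)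
  obtain ⟨B, hB⟩ := exists_isPBasis (p := p) (k := ZMod p) (K := K)
  refine Algebra.FormallySmooth.of_comp_surjective fun C _ _ I hI v => ?_
  obtain ⟨w, ⟨hw, -⟩, -⟩ := existsUnique_lift_square_zero _ hB I hI v
    (fun i => (Ideal.Quotient.mk_surjective (v i)).choose)
    (fun i => (Ideal.Quotient.mk_surjective (v i)).choose_spec)
  exact ⟨w, hw⟩

end Groth.Agent.EGA41Lib
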