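import Groth.Prelude.Def_EGA41
import Mathlib.RingTheory.Adjoin.Basic
import Mathlib.LinearAlgebra.Basis.Basic
import Mathlib.Algebra.CharP.Lemmas

/-!
# Reduced monomials, `p`-independence and `p`-generation over a subring

`Ind p S x` / `Gen p S x`: the reduced monomials in `x` are linearly independent / span over the
subring `S`.
-/

universe u v

namespace Groth.Agent.EGA41Lib

open EGA41 (pMonomial)

/-- Exponent vectors with entries `< p`. -/
abbrev Red (p : ℕ) (ι : Type u) : Type u := {e : ι →₀ ℕ // ∀ i, e i < p}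

/-- The reduced monomials. -/
noncomputable abbrev mono {p : ℕ} {B : Type u} [CommRing B] {ι : Type u} (x : ι → B) :
    Red p ι → B := fun e => pMonomial x e.1

def Ind (p : ℕ) {B : Type u} [CommRing B] (S : Subring B) {ι : Type u} (x : ι → B) : Prop :=
  LinearIndependent S (mono (p := p) x)

def Gen (p : ℕ) {B : Type u} [CommRing B] (S : Subring B) {ι : Type u} (x : ι → B) : Prop :=
  Submodule.span S (Set.range (mono (p := p) x)) = ⊤

section Monomials

variable {B C : Type u} [CommRing B] [CommRing C] {ι κ : Type u} (x : ι → B)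

theorem pMonomial_zero : pMonomial x 0 = 1 := by simp [pMonomial]

theorem pMonomial_single (i : ι) (n : ℕ) : pMonomial x (Finsupp.single i n) = x i ^ n := by
  simp [pMonomial]

theorem pMonomial_add (e f : ι →₀ ℕ) :
    pMonomial x (e + f) = pMonomial x e * pMonomial x f :=
  Finsupp.prod_add_index' (fun _ => pow_zero _) fun _ _ _ => pow_add _ _ _

theorem pMonomial_nsmul (n : ℕ) (e : ι →₀ ℕ) : pMonomial x (n • e) = pMonomial x e ^ n := by
  induction n with
  | zero => simp [pMonomial_zero]
  | succ n ih => rw [succ_nsmul, pMonomial_add, ih, pow_succ]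

theorem map_pMonomial {F : Type*} [FunLike F B C] [RingHomClass F B C] (f : F) (e : ι →₀ ℕ) :
    f (pMonomial x e) = pMonomial (fun i => f (x i)) e := by
  simp [pMonomial, Finsupp.prod, map_prod]

theorem pMonomial_mapDomain (g : κ → ι) (e : κ →₀ ℕ) :
    pMonomial x (e.mapDomain g) = pMonomial (x ∘ g) e :=
  Finsupp.prod_mapDomain_index (fun _ => pow_zero _) fun _ _ _ => pow_add _ _ _

theorem pMonomial_mem {S : Type*} [SetLike S B] [SubmonoidClass S B] (T : S) (e : ι →₀ ℕ)
    (h : ∀ i ∈ e.support, x i ∈ T) : pMonomial x e ∈ T :=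
  prod_mem fun i hi => pow_mem (h i hi) _

theorem pMonomial_pow_eq (p : ℕ) (e : ι →₀ ℕ) :
    pMonomial x e ^ p = pMonomial (fun i => x i ^ p) e := by
  simp only [pMonomial, Finsupp.prod, ← Finset.prod_pow]
  exact Finset.prod_congr rfl fun i _ => by rw [← pow_mul, ← pow_mul, Nat.mul_comm]

variable {p : ℕ}

theorem exists_red_add (hp : 0 < p) (e : ι →₀ ℕ) :
    ∃ (r : Red p ι) (q : ι →₀ ℕ), e = r.1 + p • q := by
  refine ⟨⟨e.mapRange (· % p) (Nat.zero_mod p), fun i => ?_⟩,
    e.mapRange (· / p) (Nat.zero_div p), ?_⟩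
  · simpa using Nat.mod_lt _ hp
  · ext i
    simp [Nat.mod_add_div]

end Monomials

section Span

variable {p : ℕ} [hp : Fact p.Prime] {B : Type u} [CommRing B] {S : Subring B} {ι : Type u}
  {x : ι → B}

theorem coe_span_mono (hx : ∀ i, x i ^ p ∈ S) :
    (Submodule.span S (Set.range (mono (p := p) x)) : Set B) =
      Subring.closure ((S : Set B) ∪ Set.range x) := by
  set T := Subring.closure ((S : Set B) ∪ Set.range x)
  have hS : ∀ b ∈ S, b ∈ T := fun b hb => Subring.subset_closure (Or.inl hb)
  have hxT : ∀ i, x i ∈ T := fun i => Subring.subset_closure (Or.inr ⟨i, rfl⟩)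
  set M := Submodule.span S (Set.range (mono (p := p) x))
  have hall : ∀ e : ι →₀ ℕ, pMonomial x e ∈ M := by
    intro e
    obtain ⟨r, q, rfl⟩ := exists_red_add hp.out.pos e
    rw [pMonomial_add, pMonomial_nsmul, mul_comm, pMonomial_pow_eq]
    have hq : pMonomial (fun i => x i ^ p) q ∈ S := pMonomial_mem _ S q fun i _ => hx i
    exact M.smul_mem ⟨_, hq⟩ (Submodule.subset_span ⟨r, rfl⟩)
  have h1 : (1 : B) ∈ M := by simpa [pMonomial_zero] using hall 0
  have hmul : ∀ a ∈ M, ∀ b ∈ M, a * b ∈ M := by
    intro a ha b hb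
    induction ha using Submodule.span_induction with
    | mem a ha =>
      induction hb using Submodule.span_induction with
      | mem b hb =>
        obtain ⟨r, rfl⟩ := ha
        obtain ⟨s, rfl⟩ := hb
        show pMonomial x r.1 * pMonomial x s.1 ∈ M
        rw [← pMonomial_add]
        exact hall _
      | zero => simp
      | add _ _ _ _ h1 h2 => rw [mul_add]; exact M.add_mem h1 h2
      | smul c _ _ h => rw [mul_smul_comm]; exact M.smul_mem c h
    | zero => simp
    | add _ _ _ _ h1 h2 => rw [add_mul]; exact M.add_mem h1 h2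
    | smul c _ _ h => rw [smul_mul_assoc]; exact M.smul_mem c h
  ext b
  constructor
  · intro hb
    induction hb using Submodule.span_induction with
    | mem b hb =>
      obtain ⟨r, rfl⟩ := hb
      exact pMonomial_mem x T _ fun i _ => hxT i
    | zero => exact T.zero_mem
    | add _ _ _ _ h1 h2 => exact T.add_mem h1 h2
    | smul c _ _ h => exact T.mul_mem (hS _ c.2) h
  · intro hb
    induction hb using Subring.closure_induction with
    | mem b hb =>
      rcases hb with hb | ⟨i, rfl⟩
      · simpa [Subring.smul_def] using M.smul_mem ⟨b, hb⟩ h1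
      · simpa [pMonomial_single] using hall (Finsupp.single i 1)
    | zero => exact M.zero_mem
    | one => exact h1
    | add _ _ _ _ h1 h2 => exact M.add_mem h1 h2
    | neg _ _ h => exact M.neg_mem h
    | mul a b _ _ ha hb => exact hmul a ha b hb

theorem gen_iff (hx : ∀ i, x i ^ p ∈ S) :
    Gen p S x ↔ Subring.closure ((S : Set B) ∪ Set.range x) = ⊤ := by
  unfold Gen
  constructor
  · intro h
    refine eq_top_iff.2 fun b _ => ?_
    show b ∈ (Subring.closure ((S : Set B) ∪ Set.range x) : Set B)
    rw [← coe_span_mono hx, h]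
    trivial
  · intro h
    refine SetLike.coe_injective ?_
    rw [coe_span_mono hx, h]
    simp

theorem Ind.comp {κ : Type u} (h : Ind p S x) (g : κ → ι) (hg : Function.Injective g) :
    Ind p S (x ∘ g) := by
  let G : Red p κ → Red p ι := fun e =>
    ⟨e.1.mapDomain g, fun i => by
      by_cases hi : i ∈ Set.range g
      · obtain ⟨j, rfl⟩ := hi
        rw [Finsupp.mapDomain_apply hg]
        exact e.2 j
      · rw [Finsupp.mapDomain_of_notMem_range _ _ hi]
        exact hp.out.pos⟩
  have hG : Function.Injective G := fun a b hab =>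
    Subtype.ext (Finsupp.mapDomain_injective hg (congrArg Subtype.val hab))
  have h2 := LinearIndependent.comp h G hG
  have e : mono (p := p) x ∘ G = mono (x ∘ g) := by
    funext e
    exact pMonomial_mapDomain x g e.1
  rw [e] at h2
  exact h2

theorem Ind.injective [Nontrivial B] (h : Ind p S x) : Function.Injective x := by
  intro a b hab
  have h1 : ∀ i : ι, ∀ j, Finsupp.single i 1 j < p := fun i j => by
    classical
    rw [Finsupp.single_apply]
    split <;> [exact hp.out.one_lt; exact hp.out.pos]
  let ra : Red p ι := ⟨Finsupp.single a 1, h1 a⟩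
  let rb : Red p ι := ⟨Finsupp.single b 1, h1 b⟩
  have hm : mono (p := p) x ra = mono x rb := by
    simp [ra, rb, mono, pMonomial_single, hab]
  have h2 : ra = rb := LinearIndependent.injective h hm
  exact Finsupp.single_left_injective one_ne_zero (congrArg Subtype.val h2)

omit hp in
theorem ind_of_finite
    (h : ∀ t : Finset ι, Ind p S (fun i : (t : Set ι) => x i)) : Ind p S x := by
  classical
  rw [Ind, linearIndependent_iff']
  intro s g hg e he
  let t : Finset ι := s.biUnion fun e => e.1.support
  have hsupp : ∀ e ∈ s, (e.1.support : Set ι) ⊆ t := fun e he i hi =>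
    Finset.mem_biUnion.2 ⟨e, he, hi⟩
  let R : Red p ι → Red p (t : Set ι) := fun e =>
    ⟨e.1.comapDomain Subtype.val Subtype.val_injective.injOn, fun i => e.2 i⟩
  have key : ∀ e ∈ s, (R e).1.mapDomain Subtype.val = e.1 := fun e he =>
    Finsupp.mapDomain_comapDomain _ Subtype.val_injective _
      (by simpa using hsupp e he)
  have hinj : Set.InjOn R s := fun a ha b hb hab =>
    Subtype.ext (by rw [← key a ha, ← key b hb, hab])
  have hval : ∀ e ∈ s, mono (p := p) (fun i : (t : Set ι) => x i) (R e) = mono x e := by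
    intro e he
    show pMonomial _ _ = pMonomial x e.1
    rw [← key e he, pMonomial_mapDomain]
    rfl
  have h2 : LinearIndepOn S (mono (p := p) x) (s : Set (Red p ι)) := by
    have h3 := LinearIndependent.comp (h t) (fun e : (s : Set (Red p ι)) => R e.1)
      (Set.injOn_iff_injective.1 hinj)
    refine (Eq.mp ?_ h3 :)
    congr 1
    funext e
    exact hval e.1 e.2
  exact linearIndepOn_iff'.1 h2 s g (subset_refl _) hg e he

end Span

section Transfer

theorem linearIndependent_congr_ringHom {A A' M M' κ : Type*} [Ring A] [Ring A']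
    [AddCommGroup M] [AddCommGroup M'] [Module A M] [Module A' M'] (σ : A →+* A')
    (hσ : Function.Bijective σ) (g : M →+ M') (hg : Function.Injective g)
    (hsm : ∀ a m, g (a • m) = σ a • g m) (v : κ → M) :
    LinearIndependent A v ↔ LinearIndependent A' (g ∘ v) := by
  simp only [linearIndependent_iff']
  constructor
  · intro h s c hc i hi
    choose c' hc' using fun i => hσ.2 (c i)
    have h0 : ∑ i ∈ s, c' i • v i = 0 := by
      apply hg
      rw [map_sum, map_zero, ← hc]
      exact Finset.sum_congr rfl fun j _ => by rw [hsm, hc', Function.comp_apply]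
    rw [← hc', h s c' h0 i hi, map_zero]
  · intro h s c hc i hi
    have h0 : ∑ i ∈ s, σ (c i) • (g ∘ v) i = 0 := by
      rw [← map_zero g, ← hc, map_sum]
      exact Finset.sum_congr rfl fun j _ => by rw [hsm, Function.comp_apply]
    exact hσ.1 (by rw [h s _ h0 i hi, map_zero])

variable {p : ℕ} {B C : Type u} [CommRing B] [CommRing C] {ι : Type u}

theorem ind_map_iff {f : C →+* B} (hf : Function.Injective f) (S : Subring C) (x : ι → C) :
    Ind p (S.map f) (fun i => f (x i)) ↔ Ind p S x := by
  let σ : S →+* S.map f :=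
    (f.comp S.subtype).codRestrict _ fun s => ⟨s.1, s.2, rfl⟩
  have hσ : Function.Bijective σ := by
    refine ⟨fun a b hab => Subtype.ext (hf (congrArg Subtype.val hab)), ?_⟩
    rintro ⟨_, c, hc, rfl⟩
    exact ⟨⟨c, hc⟩, rfl⟩
  rw [Ind, Ind, linearIndependent_congr_ringHom σ hσ f.toAddMonoidHom hf
    (fun a m => map_mul f _ _) (mono x)]
  have e : mono (p := p) (fun i => f (x i)) = f.toAddMonoidHom ∘ mono x :=
    funext fun (e : Red p ι) => (map_pMonomial x f e.1).symm
  rw [e]

end Transfer

section Trans

variable {p : ℕ} [hp : Fact p.Prime] {B : Type u} [CommRing B] {S T : Subring B} {ι κ : Type u}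
  {x : ι → B} {y : κ → B}

theorem pMonomial_sumElim (x : ι → B) (y : κ → B) (e : ι ⊕ κ →₀ ℕ) :
    pMonomial (Sum.elim x y) e =
      pMonomial x (Finsupp.sumFinsuppEquivProdFinsupp e).1 *
        pMonomial y (Finsupp.sumFinsuppEquivProdFinsupp e).2 := by
  classical
  obtain ⟨⟨a, b⟩, rfl⟩ := Finsupp.sumFinsuppEquivProdFinsupp.symm.surjective e
  rw [Equiv.apply_symm_apply]
  have : (Finsupp.sumFinsuppEquivProdFinsupp.symm (a, b)) =
      a.mapDomain Sum.inl + b.mapDomain Sum.inr := by
    ext (i | i) <;>
      simp [Finsupp.mapDomain_apply Sum.inl_injective, Finsupp.mapDomain_apply Sum.inr_injective,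
        Finsupp.mapDomain_of_notMem_range, Set.mem_range]
  rw [this, pMonomial_add, pMonomial_mapDomain, pMonomial_mapDomain]
  rfl

/-- The splitting of reduced exponents on a disjoint union. -/
noncomputable def redSum (p : ℕ) (ι κ : Type u) : Red p (ι ⊕ κ) ≃ Red p ι × Red p κ where
  toFun e := (⟨(Finsupp.sumFinsuppEquivProdFinsupp e.1).1, fun i => e.2 (Sum.inl i)⟩,
    ⟨(Finsupp.sumFinsuppEquivProdFinsupp e.1).2, fun i => e.2 (Sum.inr i)⟩)
  invFun ab := ⟨Finsupp.sumFinsuppEquivProdFinsupp.symm (ab.1.1, ab.2.1), by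
    rintro (i | i)
    · simpa using ab.1.2 i
    · simpa using ab.2.2 i⟩
  left_inv e := Subtype.ext (Equiv.symm_apply_apply _ _)
  right_inv ab := by
    refine Prod.ext (Subtype.ext ?_) (Subtype.ext ?_)
    · show (Finsupp.sumFinsuppEquivProdFinsupp (Finsupp.sumFinsuppEquivProdFinsupp.symm _)).1 = _
      rw [Equiv.apply_symm_apply]
    · show (Finsupp.sumFinsuppEquivProdFinsupp (Finsupp.sumFinsuppEquivProdFinsupp.symm _)).2 = _
      rw [Equiv.apply_symm_apply]

omit hp in
theorem ind_sum_iff_mul :
    Ind p S (Sum.elim x y) ↔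
      LinearIndependent S (fun ab : Red p ι × Red p κ => mono x ab.1 * mono y ab.2) := by
  rw [Ind, ← linearIndependent_equiv (redSum p ι κ) (f := fun ab => mono x ab.1 * mono y ab.2)]
  have e : mono (p := p) (Sum.elim x y) =
      (fun ab : Red p ι × Red p κ => mono x ab.1 * mono y ab.2) ∘ redSum p ι κ :=
    funext fun (e : Red p (ι ⊕ κ)) => pMonomial_sumElim x y e.1
  rw [e]

omit hp in
theorem Ind.sum (hST : S ≤ T) (hxT : ∀ i, x i ∈ T) (hx : Ind p S x) (hy : Ind p T y) :
    Ind p S (Sum.elim x y) := by
  classical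
  rw [ind_sum_iff_mul, linearIndependent_iff']
  intro s g hg i hi
  let c : Red p κ → T := fun f => ∑ e ∈ s.image Prod.fst,
    (if (e, f) ∈ s then (⟨(g (e, f) : B), hST (g (e, f)).2⟩ : T) else 0) *
      ⟨mono x e, pMonomial_mem x T _ fun i _ => hxT i⟩
  have hc : ∀ f, (c f : B) = ∑ e ∈ s.image Prod.fst,
      (if (e, f) ∈ s then g (e, f) else 0) • mono x e := by
    intro f
    simp only [c, AddSubmonoidClass.coe_finsetSum, Subring.smul_def, Subring.coe_mul, smul_eq_mul]
    refine Finset.sum_congr rfl fun e _ => ?_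
    split <;> simp
  have h0 : ∑ f ∈ s.image Prod.snd, c f • mono y f = 0 := by
    rw [← hg]
    simp only [Subring.smul_def, smul_eq_mul, hc, Finset.sum_mul]
    rw [Finset.sum_comm, ← Finset.sum_product' (s := s.image Prod.fst)]
    symm
    refine Finset.sum_subset_zero_on_sdiff ?_ ?_ ?_
    · intro ab hab
      exact Finset.mem_product.2 ⟨Finset.mem_image_of_mem _ hab, Finset.mem_image_of_mem _ hab⟩
    · intro ab hab
      rw [Finset.mem_sdiff] at hab
      simp [hab.2]
    · intro ab hab
      simp [hab, mul_assoc]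
  obtain ⟨e, f⟩ := i
  have := congrArg Subtype.val (linearIndependent_iff'.1 hy _ c h0 f (Finset.mem_image_of_mem _ hi))
  rw [hc] at this
  simpa [hi] using
    linearIndependent_iff'.1 hx _ _ this e (Finset.mem_image_of_mem Prod.fst hi)

omit hp in
theorem Ind.of_sum (hspan : (T : Set B) ⊆ Submodule.span S (Set.range (mono (p := p) x)))
    (h : Ind p S (Sum.elim x y)) : Ind p T y := by
  classical
  rw [ind_sum_iff_mul] at h
  rw [Ind, linearIndependent_iff]
  intro c hc
  choose a ha using fun t : T => Finsupp.mem_span_range_iff_exists_finsupp.1 (hspan t.2)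
  let l : Red p ι × Red p κ →₀ S := c.sum fun f t => (a t).mapDomain fun e => (e, f)
  have h0 : Finsupp.linearCombination S
      (fun ab : Red p ι × Red p κ => mono x ab.1 * mono y ab.2) l = 0 := by
    rw [← hc]
    simp only [l, map_finsuppSum, Finsupp.linearCombination_apply]
    refine Finsupp.sum_congr fun f _ => ?_
    rw [Finsupp.sum_mapDomain_index
        (h := fun (ab : Red p ι × Red p κ) (r : S) => r • (mono x ab.1 * mono y ab.2))
        (fun _ => zero_smul _ _) fun _ _ _ => add_smul _ _ _,
      Subring.smul_def, ← ha (c f), smul_eq_mul, Finsupp.sum_mul]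
    simp [Subring.smul_def, mul_assoc]
  have hl : l = 0 := linearIndependent_iff.1 h _ h0
  ext f
  have hcf : ∀ e, a (c f) e = 0 ∨ c f = 0 := by
    intro e
    by_cases hf : c f = 0
    · exact Or.inr hf
    left
    have := DFunLike.congr_fun hl (e, f)
    simp only [l, Finsupp.sum_apply, Finsupp.coe_zero, Pi.zero_apply] at this
    rw [Finsupp.sum, Finset.sum_eq_single f] at this
    · rwa [Finsupp.mapDomain_apply (fun _ _ h => congrArg Prod.fst h)] at this
    · intro g _ hg
      refine Finsupp.mapDomain_of_notMem_range _ _ ?_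
      rintro ⟨e', he'⟩
      exact hg (congrArg Prod.snd he')
    · intro hf'
      exact absurd (Finsupp.notMem_support_iff.1 hf') hf
  by_cases hf : c f = 0
  · simpa using congrArg Subtype.val hf
  · have hz : a (c f) = 0 := Finsupp.ext fun e => (hcf e).resolve_right hf
    have := ha (c f)
    rw [hz] at this
    simpa using this.symm

end Trans

/-- `A[B^p]` as a subring (the base may live in any universe). -/
def pSub (p : ℕ) (A : Type v) [CommRing A] (B : Type u) [CommRing B] [Algebra A B] : Subring B :=
  (Algebra.adjoin A (Set.range fun b : B => b ^ p)).toSubring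

/-- `p`-independence, with base in any universe. -/
abbrev PIndep (p : ℕ) (A : Type v) [CommRing A] {B : Type u} [CommRing B] [Algebra A B] {ι : Type u}
    (x : ι → B) : Prop := Ind p (pSub p A B) x

/-- `p`-generation, with base in any universe. -/
abbrev PGen (p : ℕ) (A : Type v) [CommRing A] {B : Type u} [CommRing B] [Algebra A B] {ι : Type u}
    (x : ι → B) : Prop := Gen p (pSub p A B) x

/-- `p`-bases, with base in any universe. -/
abbrev PBasis (p : ℕ) (A : Type v) [CommRing A] {B : Type u} [CommRing B] [Algebra A B] {ι : Type u}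
    (x : ι → B) : Prop := PIndep p A x ∧ PGen p A x

theorem pow_mem_pSub (p : ℕ) (A : Type v) [CommRing A] {B : Type u} [CommRing B] [Algebra A B]
    (b : B) : b ^ p ∈ pSub p A B :=
  Algebra.subset_adjoin ⟨b, rfl⟩

theorem algebraMap_mem_pSub (p : ℕ) (A : Type v) [CommRing A] {B : Type u} [CommRing B]
    [Algebra A B] (a : A) : algebraMap A B a ∈ pSub p A B :=
  Subalgebra.algebraMap_mem _ a

theorem pGen_iff_closure (p : ℕ) [Fact p.Prime] (A : Type v) [CommRing A] {B : Type u} [CommRing B]
    [Algebra A B] {ι : Type u} (x : ι → B) :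
    PGen p A x ↔ Subring.closure ((pSub p A B : Set B) ∪ Set.range x) = ⊤ :=
  gen_iff fun i => pow_mem_pSub p A (x i)

section PPower

variable (p : ℕ) [hp : Fact p.Prime] (A : Type u) {B C : Type u} [CommRing A] [CommRing B]
  [CommRing C] [Algebra A B] {ι : Type u} (x : ι → B)

omit hp in
theorem isPIndependent_iff : EGA41.IsPIndependent p A x ↔ Ind p (pSub p A B) x := Iff.rfl

omit hp in
theorem isPGenerating_iff : EGA41.IsPGenerating p A x ↔ Gen p (pSub p A B) x := Iff.rfl

omit hp in
theorem pSub_eq_range (h : ∀ b : B, b ^ p ∈ Set.range (algebraMap A B)) :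
    pSub p A B = (algebraMap A B).range := by
  have h1 : EGA41.pPowerSubalgebra p A B = ⊥ := by
    refine eq_bot_iff.2 (Algebra.adjoin_le ?_)
    rintro _ ⟨b, rfl⟩
    exact h b
  ext b
  show b ∈ EGA41.pPowerSubalgebra p A B ↔ _
  rw [h1]
  exact Algebra.mem_bot

theorem isPGenerating_iff_closure :
    EGA41.IsPGenerating p A x ↔
      Subring.closure ((pSub p A B : Set B) ∪ Set.range x) = ⊤ :=
  gen_iff fun i => pow_mem_pSub p A (x i)

omit hp in
/-- A `p`-basis gives an honest basis over the base when `A → B` is injective and `B ^ p ⊆ A`. -/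
theorem exists_basis_of_isPBasis (hinj : Function.Injective (algebraMap A B))
    (hpow : ∀ b : B, b ^ p ∈ Set.range (algebraMap A B)) (hx : EGA41.IsPBasis p A x) :
    ∃ b : Module.Basis (Red p ι) A B, ∀ e, b e = mono x e := by
  have hS := pSub_eq_range p A hpow
  let σ : A →+* pSub p A B :=
    (algebraMap A B).codRestrict _ (algebraMap_mem_pSub p A)
  have hσ : Function.Bijective σ := by
    refine ⟨fun a b hab => hinj (congrArg Subtype.val hab), fun s => ?_⟩
    obtain ⟨s, hs⟩ := s
    rw [hS] at hs
    obtain ⟨a, rfl⟩ := hs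
    exact ⟨a, rfl⟩
  have hli : LinearIndependent A (mono (p := p) x) :=
    (linearIndependent_congr_ringHom σ hσ (AddMonoidHom.id B) Function.injective_id
      (fun a m => Algebra.smul_def a m) (mono x)).2 hx.1
  have hsp : ⊤ ≤ Submodule.span A (Set.range (mono (p := p) x)) := by
    intro b _
    have hb : b ∈ Submodule.span (pSub p A B) (Set.range (mono (p := p) x)) := by
      have h2 : Gen p (pSub p A B) x := hx.2
      rw [Gen] at h2
      rw [h2]
      trivial
    induction hb using Submodule.span_induction with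
    | mem _ h => exact Submodule.subset_span h
    | zero => exact Submodule.zero_mem _
    | add _ _ _ _ h1 h2 => exact Submodule.add_mem _ (h1 trivial) (h2 trivial)
    | smul s m _ h =>
      obtain ⟨a, rfl⟩ := hσ.2 s
      have : σ a • m = a • m := (Algebra.smul_def a m).symm
      rw [this]
      exact Submodule.smul_mem _ a (h trivial)
  exact ⟨Module.Basis.mk hli hsp, fun e => Module.Basis.mk_apply _ _ e⟩

end PPower

end Groth.Agent.EGA41Lib
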