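import Groth.Agent.EGA41Lib.Basic
import Mathlib.FieldTheory.KummerPolynomial
import Mathlib.RingTheory.PowerBasis
import Mathlib.Algebra.CharP.Frobenius
import Mathlib.Order.Zorn

/-!
# `p`-independence in fields
-/

universe u

namespace Groth.Agent.EGA41Lib

open EGA41 (pMonomial)
open Polynomial

variable {p : ℕ} [hp : Fact p.Prime] {K : Type u} [Field K] [CharP K p] {F : Subring K}

omit [CharP K p] in
theorem inv_mem_of_pow (hF : ∀ y : K, y ^ p ∈ F) {y : K} (hy : y ∈ F) : y⁻¹ ∈ F := by
  rcases eq_or_ne y 0 with rfl | h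
  · simp
  · have : y⁻¹ = y⁻¹ ^ p * y ^ (p - 1) := by
      obtain ⟨n, hn⟩ := Nat.exists_eq_succ_of_ne_zero hp.out.ne_zero
      rw [hn, Nat.succ_sub_one, pow_succ', mul_assoc, ← mul_pow, inv_mul_cancel₀ h, one_pow,
        mul_one]
    rw [this]
    exact F.mul_mem (hF _) (F.pow_mem hy _)

theorem ind_single {s : K} (hF : ∀ y : K, y ^ p ∈ F) (hs : s ∉ F) :
    Ind p F (fun _ : PUnit.{u + 1} => s) := by
  let L : Subfield K := { F with inv_mem' := fun _ hy => inv_mem_of_pow hF hy }
  let c : L := ⟨s ^ p, hF s⟩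
  have hirr : Irreducible (X ^ p - C c) := by
    refine X_pow_sub_C_irreducible_of_prime hp.out fun b hb => hs ?_
    have h1 : (b : K) ^ p = s ^ p := congrArg Subtype.val hb
    rw [← frobenius_inj K p (show frobenius K p (b : K) = frobenius K p s from h1)]
    exact b.2
  have hmin : X ^ p - C c = minpoly L s :=
    minpoly.eq_of_irreducible_of_monic hirr
      (by simp only [map_sub, map_pow, aeval_X, aeval_C]; exact sub_self (s ^ p))
      (monic_X_pow_sub_C c hp.out.ne_zero)
  have hdeg : (minpoly L s).natDegree = p := by rw [← hmin, natDegree_X_pow_sub_C]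
  let G : Red p PUnit.{u + 1} → Fin (minpoly L s).natDegree :=
    fun e => ⟨e.1 PUnit.unit, hdeg.symm ▸ e.2 PUnit.unit⟩
  have hG : Function.Injective G := fun a b hab =>
    Subtype.ext (Finsupp.ext fun _ => congrArg Fin.val hab)
  have h2 : LinearIndependent L ((fun i : Fin (minpoly L s).natDegree => s ^ (i : ℕ)) ∘ G) :=
    (linearIndependent_pow s).comp G hG
  have he : mono (p := p) (fun _ : PUnit.{u + 1} => s) =
      (fun i : Fin (minpoly L s).natDegree => s ^ (i : ℕ)) ∘ G := by
    funext e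
    show pMonomial _ e.1 = s ^ (e.1 PUnit.unit)
    rw [← pMonomial_single (fun _ : PUnit.{u + 1} => s) PUnit.unit]
    congr 1
    ext
    simp
  rw [Ind, he]
  exact h2

theorem Ind.sum_single {ι : Type u} {x : ι → K} {s : K} (hF : ∀ y : K, y ^ p ∈ F)
    (hx : Ind p F x) (hs : s ∉ Subring.closure ((F : Set K) ∪ Set.range x)) :
    Ind p F (Sum.elim x (fun _ : PUnit.{u + 1} => s)) :=
  Ind.sum (fun _ hf => Subring.subset_closure (Or.inl hf))
    (fun i => Subring.subset_closure (Or.inr ⟨i, rfl⟩)) hx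
    (ind_single (fun y => Subring.subset_closure (Or.inl (hF y))) hs)

omit [CharP K p] in
theorem Ind.notMem_closure {ι : Type u} {x : ι → K} (hF : ∀ y : K, y ^ p ∈ F) (hx : Ind p F x)
    (a : ι) : x a ∉ Subring.closure ((F : Set K) ∪ x '' {b | b ≠ a}) := by
  classical
  intro h
  have h1 : ∀ i, Finsupp.single a 1 i < p := fun i => by
    rw [Finsupp.single_apply]
    split <;> [exact hp.out.one_lt; exact hp.out.pos]
  let ra : Red p ι := ⟨Finsupp.single a 1, h1⟩
  refine LinearIndependent.notMem_span_image hx (s := {e : Red p ι | e.1 a = 0}) (x := ra)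
    (by simp [ra]) ?_
  have hr : Set.range (fun b : {b | b ≠ a} => x b) = x '' {b | b ≠ a} := by
    ext y; simp
  rw [← hr] at h
  have h2 : x a ∈ Submodule.span F (Set.range (mono (p := p) fun b : {b | b ≠ a} => x b)) := by
    rw [← SetLike.mem_coe, coe_span_mono fun i => hF _]
    exact h
  have h3 : mono (p := p) x ra = x a := by simp [mono, ra, pMonomial_single]
  rw [h3]
  refine Submodule.span_mono ?_ h2
  rintro _ ⟨e, rfl⟩
  let e' : Red p ι := ⟨e.1.mapDomain Subtype.val, fun i => by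
    by_cases hi : i ∈ Set.range (Subtype.val : {b | b ≠ a} → ι)
    · obtain ⟨j, rfl⟩ := hi
      rw [Finsupp.mapDomain_apply Subtype.val_injective]
      exact e.2 j
    · rw [Finsupp.mapDomain_of_notMem_range _ _ hi]
      exact hp.out.pos⟩
  refine ⟨e', Finsupp.mapDomain_of_notMem_range _ _ ?_, pMonomial_mapDomain x _ e.1⟩
  rintro ⟨⟨j, hj⟩, he⟩
  exact hj he

theorem ind_of_notMem_closure {ι : Type u} {x : ι → K} (hF : ∀ y : K, y ^ p ∈ F)
    (hx : ∀ a, x a ∉ Subring.closure ((F : Set K) ∪ x '' {b | b ≠ a})) : Ind p F x := by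
  classical
  refine ind_of_finite fun t => ?_
  induction t using Finset.induction with
  | empty =>
    have : Subsingleton (Red p ((∅ : Finset ι) : Set ι)) :=
      ⟨fun a b => Subtype.ext (Finsupp.ext fun i => absurd i.2 (Finset.notMem_empty _))⟩
    refine LinearIndependent.of_subsingleton (⟨0, fun _ => hp.out.pos⟩ : Red p _) ?_
    simp [mono, pMonomial_zero]
  | insert a t ha ih =>
    have hs : x a ∉ Subring.closure ((F : Set K) ∪ Set.range fun i : (t : Set ι) => x i) := by
      refine fun h => hx a (Subring.closure_mono (Set.union_subset_union_right _ ?_) h)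
      rintro _ ⟨⟨i, hi⟩, rfl⟩
      exact ⟨i, fun h => ha (h ▸ hi), rfl⟩
    have h2 := Ind.sum_single hF ih hs
    let g : ((insert a t : Finset ι) : Set ι) → (t : Set ι) ⊕ PUnit.{u + 1} := fun i =>
      if h : (i : ι) ∈ t then Sum.inl ⟨i, h⟩ else Sum.inr PUnit.unit
    have hg : Function.Injective g := by
      rintro ⟨i, hi⟩ ⟨j, hj⟩ h
      simp only [Finset.mem_coe, Finset.mem_insert] at hi hj
      apply Subtype.ext
      by_cases h1 : i ∈ t <;> by_cases h2 : j ∈ t <;> simp [g, h1, h2] at h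
      · exact h
      · exact (hi.resolve_right h1).trans (hj.resolve_right h2).symm
    have h3 := Ind.comp h2 g hg
    have : (Sum.elim (fun i : (t : Set ι) => x i) fun _ : PUnit.{u + 1} => x a) ∘ g =
        fun i : ((insert a t : Finset ι) : Set ι) => x i := by
      funext ⟨i, hi⟩
      simp only [Finset.mem_coe, Finset.mem_insert] at hi
      by_cases h1 : i ∈ t
      · simp [g, h1]
      · obtain rfl := hi.resolve_right h1
        simp [g, h1]
    rw [this] at h3
    exact h3

theorem ind_iff_notMem {ι : Type u} {x : ι → K} (hF : ∀ y : K, y ^ p ∈ F) :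
    Ind p F x ↔ ∀ a, x a ∉ Subring.closure ((F : Set K) ∪ x '' {b | b ≠ a}) :=
  ⟨fun h => h.notMem_closure hF, ind_of_notMem_closure hF⟩

theorem exists_maximal_ind (hF : ∀ y : K, y ^ p ∈ F) {S L : Set K} (hLS : L ⊆ S)
    (hL : Ind p F (Subtype.val : L → K)) :
    ∃ B : Set K, L ⊆ B ∧ B ⊆ S ∧ Ind p F (Subtype.val : B → K) ∧
      S ⊆ Subring.closure ((F : Set K) ∪ B) := by
  classical
  obtain ⟨B, hLB, hB⟩ := zorn_subset_nonempty {B : Set K | B ⊆ S ∧ Ind p F (Subtype.val : B → K)}
    (fun c hc hchain hne => ⟨⋃₀ c, ⟨Set.sUnion_subset fun s hs => (hc hs).1, by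
      refine ind_of_finite fun t => ?_
      have hsub : ((t.image Subtype.val : Finset K) : Set K) ⊆ ⋃₀ c := by
        intro y hy
        obtain ⟨z, -, rfl⟩ := Finset.mem_image.1 hy
        exact z.2
      obtain ⟨s, hs, hts⟩ :=
        hchain.directedOn.exists_mem_subset_of_finite_of_subset_sUnion hne
          (Finset.finite_toSet _) hsub
      have hmem : ∀ i : (t : Set (⋃₀ c : Set K)), ((i : (⋃₀ c : Set K)) : K) ∈ s := fun i =>
        hts (Finset.mem_image_of_mem _ i.2)
      exact Ind.comp (hc hs).2 (fun i => (⟨_, hmem i⟩ : s)) (fun i j hij =>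
        Subtype.ext (Subtype.ext (congrArg (fun z : s => (z : K)) hij)))⟩,
      fun s hs => Set.subset_sUnion_of_mem hs⟩) L ⟨hLS, hL⟩
  refine ⟨B, hLB, hB.prop.1, hB.prop.2, fun s hs => ?_⟩
  by_contra h
  have hsB : s ∉ B := fun hsB => h (Subring.subset_closure (Or.inr hsB))
  have h2 := Ind.sum_single hF hB.prop.2 (s := s) (by simpa using h)
  let g : ↥(insert s B : Set K) → B ⊕ PUnit.{u + 1} := fun i =>
    if hi : (i : K) ∈ B then Sum.inl ⟨i, hi⟩ else Sum.inr PUnit.unit
  have hg : Function.Injective g := by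
    rintro ⟨i, hi⟩ ⟨j, hj⟩ h
    apply Subtype.ext
    by_cases h1 : i ∈ B <;> by_cases h2 : j ∈ B <;> simp [g, h1, h2] at h
    · exact h
    · exact (hi.resolve_right h1).trans (hj.resolve_right h2).symm
  have h3 := Ind.comp h2 g hg
  have : (Sum.elim (Subtype.val : B → K) fun _ : PUnit.{u + 1} => s) ∘ g = Subtype.val := by
    funext ⟨i, hi⟩
    by_cases h1 : i ∈ B
    · simp [g, h1]
    · obtain rfl := hi.resolve_right h1
      simp [g, h1]
  rw [this] at h3
  exact hsB (hB.le_of_ge ⟨Set.insert_subset hs hB.prop.1, h3⟩ (Set.subset_insert _ _)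
    (Set.mem_insert _ _))

end Groth.Agent.EGA41Lib
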