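import Groth.Agent.EGA41Lib.ReducedTensor
import Groth.Agent.EGA41Lib.FieldCrit
import Mathlib.FieldTheory.PurelyInseparable.PerfectClosure
import Mathlib.FieldTheory.IsAlgClosed.AlgebraicClosure
import Mathlib.RingTheory.TensorProduct.Free
import Mathlib.RingTheory.Kaehler.TensorProduct
import Mathlib.RingTheory.Nilpotent.GeometricallyReduced

/-!
# Linear disjointness from `k^{1/p}`, reduced tensor products, injectivity on differentials
-/

universe u

namespace Groth.Agent.EGA41Lib

open TensorProduct

variable (p : ℕ) [hp : Fact p.Prime] (k : Type u) [Field k] [CharP k p]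

/-- Frobenius preserves `k`-linear independence in `A`. -/
def FrobLI (A : Type u) [CommRing A] [Algebra k A] : Prop :=
  ∀ {ι : Type u} (c : ι → A), LinearIndependent k c → LinearIndependent k (fun i => c i ^ p)

variable {p k} {A : Type u} [CommRing A] [Algebra k A]

theorem frobLI_of_purelyInseparable
    (h : ∀ (k' : Type u) [Field k'] [Algebra k k'] [Module.Finite k k'] [IsPurelyInseparable k k'],
      IsReduced (k' ⊗[k] A)) : FrobLI p k A := by
  intro ι c hc
  classical
  rw [linearIndependent_iff']
  intro s g hg i hi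
  let Ω := AlgebraicClosure k
  have : CharP Ω p := charP_of_injective_algebraMap (RingHom.injective (algebraMap k Ω)) p
  have hroot : ∀ a : k, ∃ b : Ω, b ^ p = algebraMap k Ω a := fun a =>
    IsAlgClosed.exists_pow_nat_eq _ hp.out.pos
  choose root hroot using hroot
  let T : Finset Ω := s.image fun j => root (g j)
  let L : IntermediateField k Ω := IntermediateField.adjoin k (T : Set Ω)
  have : ExpChar k p := ExpChar.prime hp.out
  have : IsPurelyInseparable k L := by
    refine (IntermediateField.isPurelyInseparable_adjoin_iff_pow_mem k Ω p (S := (T : Set Ω))).2 ?_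
    intro y hy
    obtain ⟨j, -, rfl⟩ := Finset.mem_image.1 hy
    exact ⟨1, by rw [pow_one, hroot]; exact ⟨_, rfl⟩⟩
  have : Module.Finite k L :=
    IntermediateField.finiteDimensional_adjoin fun y _ => Algebra.IsIntegral.isIntegral y
  let r : ι → L := fun j =>
    if hj : root (g j) ∈ L then ⟨root (g j), hj⟩ else 0
  have hr : ∀ j ∈ s, r j ^ p = algebraMap k L (g j) := fun j hj => by
    have : root (g j) ∈ L := IntermediateField.subset_adjoin k _
      (Finset.mem_image_of_mem _ hj)
    simp only [r, dif_pos this]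
    exact Subtype.ext (hroot (g j))
  have hred := h L
  rcases subsingleton_or_nontrivial A with hA | hA
  · exact absurd (Subsingleton.elim (c i) 0) (hc.ne_zero i)
  have : CharP A p := charP_of_injective_algebraMap (RingHom.injective (algebraMap k A)) p
  let e := Algebra.TensorProduct.comm k A L
  have hred' : IsReduced (A ⊗[k] L) := isReduced_of_injective e e.injective
  have : Nontrivial (A ⊗[k] L) :=
    (Algebra.TensorProduct.includeLeft_injective (S := k) (A := A) (B := L)
      (RingHom.injective _)).nontrivial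
  have : CharP (A ⊗[k] L) p :=
    charP_of_injective_algebraMap (RingHom.injective (algebraMap k (A ⊗[k] L))) p
  have h0 : ∑ j ∈ s, c j ⊗ₜ[k] r j = 0 := by
    refine hred'.eq_zero _ ⟨p, ?_⟩
    refine (sum_pow_char (R := A ⊗[k] L) p s fun j => c j ⊗ₜ[k] r j).trans ?_
    calc ∑ j ∈ s, (c j ⊗ₜ[k] r j) ^ p = ∑ j ∈ s, (g j • c j ^ p) ⊗ₜ[k] (1 : L) :=
          Finset.sum_congr rfl fun j hj => by
            rw [Algebra.TensorProduct.tmul_pow, hr j hj, Algebra.algebraMap_eq_smul_one,
              TensorProduct.tmul_smul, TensorProduct.smul_tmul']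
      _ = 0 := by rw [← TensorProduct.sum_tmul, hg, TensorProduct.zero_tmul]
  have h1 := eq_zero_of_sum_tmul_eq_zero hc s r h0 i hi
  have h2 := hr i hi
  rw [h1, zero_pow hp.out.ne_zero] at h2
  exact (map_eq_zero _).1 h2.symm

theorem frobLI_of_isGeometricallyReduced [Algebra.IsGeometricallyReduced k A] : FrobLI p k A :=
  frobLI_of_purelyInseparable fun k' _ _ _ _ => inferInstance

theorem FrobLI.isReduced_tensor (hA : FrobLI p k A) (R : Type u) [CommRing R] [Algebra k R]
    [IsReduced R] : IsReduced (A ⊗[k] R) := by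
  rw [isReduced_iff_pow_one_lt p hp.out.one_lt]
  intro ξ hξ
  rcases subsingleton_or_nontrivial (A ⊗[k] R) with h | h
  · exact Subsingleton.elim _ _
  have : CharP (A ⊗[k] R) p :=
    charP_of_injective_algebraMap (RingHom.injective (algebraMap k (A ⊗[k] R))) p
  obtain ⟨⟨ι, b⟩⟩ := Module.Free.exists_basis (R := k) (M := A)
  obtain ⟨c, rfl⟩ := (TensorProduct.eq_repr_basis_left b ξ : ∃ c, _)
  rw [Finsupp.sum, sum_pow_char] at hξ
  simp only [Algebra.TensorProduct.tmul_pow] at hξ
  have hc : ∀ i ∈ c.support, c i = 0 := fun i hi =>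
    IsReduced.eq_zero _ ⟨p, eq_zero_of_sum_tmul_eq_zero (hA b b.linearIndependent) _ _ hξ i hi⟩
  exact Finset.sum_eq_zero fun i hi => by simp [hc i hi]

theorem FrobLI.isGeometricallyReduced (hA : FrobLI p k A) : Algebra.IsGeometricallyReduced k A := by
  rw [Algebra.isGeometricallyReduced_field_iff]
  have := hA.isReduced_tensor (AlgebraicClosure k)
  exact isReduced_of_injective (Algebra.TensorProduct.comm k (AlgebraicClosure k) A)
    (AlgEquiv.injective _)

variable {K : Type u} [Field K] [Algebra k K]

theorem pSub_int_eq_range [CharP K p] : pSub p ℤ K = (frobenius K p).range := by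
  refine le_antisymm (fun y hy => ?_) ?_
  · induction hy using Algebra.adjoin_induction with
    | mem z hz =>
      obtain ⟨c, rfl⟩ := hz
      exact ⟨c, rfl⟩
    | algebraMap r => exact intCast_mem _ r
    | add _ _ _ _ h1 h2 => exact Subring.add_mem _ h1 h2
    | mul _ _ _ _ h1 h2 => exact Subring.mul_mem _ h1 h2
  · rintro _ ⟨c, rfl⟩
    exact pow_mem_pSub p ℤ c

theorem injective_mapBaseChange_iff [CharP K p] {ι : Type u} {x : ι → k}
    (hx : PBasis p ℤ x) :
    Function.Injective (KaehlerDifferential.mapBaseChange ℤ k K) ↔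
      PIndep p ℤ (fun i => algebraMap k K (x i)) := by
  rw [isPIndependent_iff_linearIndependent]
  obtain ⟨b, hb⟩ := exists_basis_kaehler hx
  let b' := b.baseChange K
  have hb' : ∀ i, KaehlerDifferential.mapBaseChange ℤ k K (b' i) =
      KaehlerDifferential.D ℤ K (algebraMap k K (x i)) := by
    intro i
    rw [show b' i = (1 : K) ⊗ₜ b i from b.baseChange_apply K i, hb,
      KaehlerDifferential.mapBaseChange_tmul, one_smul, KaehlerDifferential.map_D]
  constructor
  · intro h
    have h2 := b'.linearIndependent.map' _ (LinearMap.ker_eq_bot.2 h)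
    refine (Eq.mp ?_ h2 :)
    congr 1
    exact funext hb'
  · intro h
    rw [← LinearMap.ker_eq_bot, Submodule.eq_bot_iff]
    intro y hy
    have h2 : Finsupp.linearCombination K
        (fun i => KaehlerDifferential.D ℤ K (algebraMap k K (x i))) (b'.repr y) = 0 := by
      rw [← LinearMap.mem_ker.1 hy]
      conv_rhs => rw [← b'.linearCombination_repr y, Finsupp.apply_linearCombination]
      exact congrArg (fun v => Finsupp.linearCombination K v (b'.repr y))
        (funext fun i => (hb' i).symm)
    simpa using linearIndependent_iff.1 h _ h2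

theorem FrobLI.isPIndependent [CharP K p] (hK : FrobLI p k K) {ι : Type u} {x : ι → k}
    (hx : PIndep p ℤ x) :
    PIndep p ℤ (fun i => algebraMap k K (x i)) := by
  classical
  rw [PIndep, Ind, linearIndependent_iff']
  intro s g hg e he
  have hgr : ∀ e, ∃ c : K, c ^ p = (g e : K) := fun e => by
    have h : (g e : K) ∈ (frobenius K p).range := pSub_int_eq_range (K := K) ▸ (g e).2
    exact h
  choose c hc using hgr
  obtain ⟨⟨κ, d⟩⟩ := Module.Free.exists_basis (R := k) (M := K)
  let b : Red p ι → κ → k := fun e j => d.repr (c e) j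
  let J : Finset κ := s.biUnion fun e => (d.repr (c e)).support
  have hce : ∀ e ∈ s, c e = ∑ j ∈ J, b e j • d j := fun e he => by
    conv_lhs => rw [← d.linearCombination_repr (c e)]
    rw [Finsupp.linearCombination_apply]
    exact Finsupp.sum_of_support_subset _ (fun j hj => Finset.mem_biUnion.2 ⟨e, he, hj⟩)
      (fun j a => a • d j) fun _ _ => zero_smul _ _
  have h0 : ∑ j ∈ J, (∑ e ∈ s, b e j ^ p * mono x e) • d j ^ p = 0 := by
    rw [← hg]
    simp only [Finset.sum_smul]
    rw [Finset.sum_comm]
    refine Finset.sum_congr rfl fun e he => ?_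
    show _ = (g e : K) * EGA41.pMonomial _ e.1
    rw [← hc e, hce e he, sum_pow_char, Finset.sum_mul, ← map_pMonomial x (algebraMap k K)]
    refine Finset.sum_congr rfl fun j _ => ?_
    rw [Algebra.smul_def, Algebra.smul_def, mul_pow, map_mul, map_pow]
    ring
  have h1 := linearIndependent_iff'.1 (hK d d.linearIndependent) J _ h0
  have h2 : ∀ j ∈ J, b e j = 0 := fun j hj => by
    have h3 := linearIndependent_iff'.1 hx s
      (fun e => (⟨b e j ^ p, pow_mem_pSub p ℤ _⟩ : pSub p ℤ k)) (h1 j hj) e he
    exact (pow_eq_zero_iff hp.out.ne_zero).1 (congrArg Subtype.val h3)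
  apply Subtype.ext
  show (g e : K) = 0
  rw [← hc e, hce e he, Finset.sum_eq_zero (fun j hj => by rw [h2 j hj, zero_smul]),
    zero_pow hp.out.ne_zero]

theorem frobLI_of_isPIndependent [CharP K p] {ι : Type u} {x : ι → k}
    (hx : PBasis p ℤ x)
    (hxK : PIndep p ℤ (fun i => algebraMap k K (x i))) : FrobLI p k K := by
  classical
  intro κ c hc
  rw [linearIndependent_iff']
  intro s a ha j hj
  have hak : ∀ j, ∃ l : Red p ι →₀ pSub p ℤ k, l.sum (fun e t => t • mono x e) = a j := fun j => by
    refine Finsupp.mem_span_range_iff_exists_finsupp.1 ?_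
    have h2 : Gen p (pSub p ℤ k) x := hx.2
    rw [Gen] at h2
    rw [h2]
    trivial
  choose l hl using hak
  let E : Finset (Red p ι) := s.biUnion fun j => (l j).support
  have hroot : ∀ j e, ∃ b : k, b ^ p = ((l j e : pSub p ℤ k) : k) := fun j e => by
    have h : ((l j e : pSub p ℤ k) : k) ∈ (frobenius k p).range :=
      pSub_int_eq_range (K := k) ▸ (l j e).2
    exact h
  choose b hb using hroot
  have haj : ∀ j ∈ s, a j = ∑ e ∈ E, b j e ^ p * mono x e := fun j hj => by
    rw [← hl j, Finsupp.sum_of_support_subset (s := E) _ (fun e he => Finset.mem_biUnion.2 ⟨j, hj, he⟩)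
      (fun e (t : pSub p ℤ k) => t • mono x e) fun _ _ => zero_smul _ _]
    exact Finset.sum_congr rfl fun e _ => by rw [hb]; rfl
  have h0 : ∑ e ∈ E, (⟨(∑ j ∈ s, b j e • c j) ^ p, pow_mem_pSub p ℤ _⟩ : pSub p ℤ K) •
      mono (fun i => algebraMap k K (x i)) e = 0 := by
    rw [← ha]
    simp only [Subring.smul_def, smul_eq_mul, sum_pow_char, Finset.sum_mul]
    rw [Finset.sum_comm]
    refine Finset.sum_congr rfl fun j hj => ?_
    rw [haj j hj, Finset.sum_smul]
    refine Finset.sum_congr rfl fun e _ => ?_
    rw [Algebra.smul_def, Algebra.smul_def, mul_pow, map_mul, map_pow]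
    show _ = _ * (algebraMap k K) (EGA41.pMonomial x e.1) * _
    rw [map_pMonomial]
    ring
  rw [haj j hj]
  refine Finset.sum_eq_zero fun e he => ?_
  have h1 : (∑ j ∈ s, b j e • c j) ^ p = 0 :=
    congrArg Subtype.val (linearIndependent_iff'.1 hxK E _ h0 e he)
  rw [pow_eq_zero_iff hp.out.ne_zero] at h1
  rw [linearIndependent_iff'.1 hc s _ h1 j hj, zero_pow hp.out.ne_zero, zero_mul]

theorem frobLI_iff_injective [CharP K p] :
    FrobLI p k K ↔ Function.Injective (KaehlerDifferential.mapBaseChange ℤ k K) := by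
  obtain ⟨B, hB⟩ := exists_isPBasis (p := p) (k := ℤ) (K := k)
  rw [injective_mapBaseChange_iff hB]
  exact ⟨fun h => h.isPIndependent hB.1, frobLI_of_isPIndependent hB⟩

end Groth.Agent.EGA41Lib
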