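import Groth.Agent.EGA41Lib.Basic
import Mathlib.RingTheory.Derivation.Basic
import Mathlib.Algebra.TrivSqZeroExt.Basic

/-!
# The universal property of a `p`-basis: algebra maps and derivations
-/

universe u

namespace Groth.Agent.EGA41Lib

open EGA41 (pMonomial)

variable {p : ℕ} [hp : Fact p.Prime] {A B : Type u} [CommRing A] [CommRing B] [Algebra A B]
  {ι : Type u} {x : ι → B}

section AlgHom

variable {E : Type u} [CommRing E] [Algebra A E]

omit hp in
theorem algHom_ext_mono (b : Module.Basis (Red p ι) A B) (hb : ∀ e, b e = mono x e)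
    {v w : B →ₐ[A] E} (h : ∀ i, v (x i) = w (x i)) : v = w := by
  have h2 : v.toLinearMap = w.toLinearMap := b.ext fun e => by
    show v (b e) = w (b e)
    rw [hb e]
    show v (pMonomial x e.1) = w (pMonomial x e.1)
    rw [map_pMonomial, map_pMonomial]
    simp [h]
  exact AlgHom.ext fun y => LinearMap.congr_fun h2 y

theorem existsUnique_algHom (b : Module.Basis (Red p ι) A B) (hb : ∀ e, b e = mono x e)
    (hxp : ∀ i, x i ^ p ∈ Set.range (algebraMap A B)) (z : ι → E)
    (hz : ∀ i a, algebraMap A B a = x i ^ p → algebraMap A E a = z i ^ p) :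
    ∃! v : B →ₐ[A] E, ∀ i, v (x i) = z i := by
  choose a ha using hxp
  let zm : (ι →₀ ℕ) → E := fun e => e.prod fun i n => z i ^ n
  have zm_zero : zm 0 = 1 := by simp [zm]
  have zm_add : ∀ e f, zm (e + f) = zm e * zm f := fun e f =>
    Finsupp.prod_add_index' (fun _ => pow_zero _) fun _ _ _ => pow_add _ _ _
  let v : B →ₗ[A] E := b.constr A fun e => zm e.1
  have hv : ∀ e : Red p ι, v (mono x e) = zm e.1 := fun e => by
    rw [← hb e]
    exact b.constr_basis A _ e
  have hall : ∀ e : ι →₀ ℕ, v (pMonomial x e) = zm e := by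
    intro e
    obtain ⟨r, q, rfl⟩ := exists_red_add hp.out.pos e
    have hq : pMonomial (fun i => x i ^ p) q = algebraMap A B (pMonomial a q) := by
      rw [map_pMonomial]
      simp only [ha]
    have hzq : algebraMap A E (pMonomial a q) = zm (p • q) := by
      simp only [pMonomial, zm, Finsupp.prod, map_prod, map_pow]
      rw [show (p • q).support = q.support from Finsupp.support_smul_eq hp.out.ne_zero]
      exact Finset.prod_congr rfl fun i _ => by
        rw [hz i (a i) (ha i), ← pow_mul]
        simp
    rw [pMonomial_add, pMonomial_nsmul, pMonomial_pow_eq, hq, mul_comm, ← Algebra.smul_def,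
      map_smul, zm_add, Algebra.smul_def, hzq]
    show zm _ * v (mono x r) = _
    rw [hv, mul_comm]
  have hmul : ∀ y y' : B, v (y * y') = v y * v y' := by
    have key : (LinearMap.mul A B).compr₂ v = ((LinearMap.mul A E).comp v).compl₂ v := by
      refine b.ext fun e => b.ext fun f => ?_
      simp only [LinearMap.compr₂_apply, LinearMap.mul_apply', LinearMap.compl₂_apply,
        LinearMap.comp_apply, hb]
      rw [hv, hv]
      show v (pMonomial x e.1 * pMonomial x f.1) = _
      rw [← pMonomial_add, hall, zm_add]
    exact fun y y' => LinearMap.congr_fun (LinearMap.congr_fun key y) y'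
  have h1 : v 1 = 1 := by
    have := hall 0
    rwa [pMonomial_zero, zm_zero] at this
  refine ⟨AlgHom.ofLinearMap v h1 hmul, fun i => ?_, fun w hw => algHom_ext_mono b hb fun i => ?_⟩
  · show v (x i) = z i
    have := hall (Finsupp.single i 1)
    simpa [pMonomial_single, zm] using this
  · show w (x i) = v (x i)
    have := hall (Finsupp.single i 1)
    rw [hw i]
    simpa [pMonomial_single, zm] using this.symm

end AlgHom

section Derivation

variable {L : Type u} [AddCommGroup L] [Module B L]

theorem derivation_natCast (D : Derivation ℤ B L) (n : ℕ) : D (n : B) = 0 := by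
  simpa using D.map_algebraMap (n : ℤ)

omit hp in
theorem derivation_pow_eq_zero [CharP B p] (D : Derivation ℤ B L) (y : B) : D (y ^ p) = 0 := by
  rw [Derivation.leibniz_pow, ← Nat.cast_smul_eq_nsmul B, CharP.cast_eq_zero, zero_smul]

theorem derivation_eq_zero_of_gen {S : Subring B} (hxS : ∀ i, x i ^ p ∈ S) (hgen : Gen p S x)
    (D : Derivation ℤ B L) (hS : ∀ s ∈ S, D s = 0) (hx : ∀ i, D (x i) = 0) : D = 0 := by
  refine Derivation.ext fun y => ?_
  have hy : y ∈ Subring.closure ((S : Set B) ∪ Set.range x) := by
    rw [(gen_iff hxS).1 hgen]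
    trivial
  show D y = 0
  induction hy using Subring.closure_induction with
  | mem z hz =>
    rcases hz with hz | ⟨i, rfl⟩
    · exact hS z hz
    · exact hx i
  | zero => simp
  | one => simp
  | add _ _ _ _ h1 h2 => rw [map_add, h1, h2, add_zero]
  | neg _ _ h => rw [map_neg, h, neg_zero]
  | mul a c _ _ h1 h2 => rw [Derivation.leibniz, h1, h2, smul_zero, smul_zero, add_zero]

theorem exists_derivation [CharP B p] [Module A L] [IsScalarTower A B L]
    (b : Module.Basis (Red p ι) A B) (hb : ∀ e, b e = mono x e)
    (hxp : ∀ i, x i ^ p ∈ Set.range (algebraMap A B)) (D : Derivation ℤ A L)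
    (hD : ∀ i a, algebraMap A B a = x i ^ p → D a = 0) (y : ι → L) :
    ∃ D' : Derivation ℤ B L, (∀ a, D' (algebraMap A B a) = D a) ∧ ∀ i, D' (x i) = y i := by
  let : Module Bᵐᵒᵖ L := Module.compHom L ((RingHom.id B).fromOpposite fun a c => mul_comm a c)
  have : IsCentralScalar B L := ⟨fun _ _ => rfl⟩
  let φ : A →+* TrivSqZeroExt B L :=
    { toFun := fun a => TrivSqZeroExt.inl (algebraMap A B a) + TrivSqZeroExt.inr (D a)
      map_one' := by simp
      map_zero' := by simp
      map_add' := fun a c => by
        ext <;> simp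
      map_mul' := fun a c => by
        ext <;> simp [TrivSqZeroExt.fst_mul, TrivSqZeroExt.snd_mul, algebraMap_smul] }
  let := φ.toAlgebra
  obtain ⟨v, hv, -⟩ := existsUnique_algHom (E := TrivSqZeroExt B L) b hb hxp
    (fun i => TrivSqZeroExt.inl (x i) + TrivSqZeroExt.inr (y i)) (fun i a ha => by
      show φ a = _
      ext
      · simp [φ, ha, TrivSqZeroExt.fst_pow]
      · simp only [φ, RingHom.coe_mk, MonoidHom.coe_mk, OneHom.coe_mk, TrivSqZeroExt.snd_add,
          TrivSqZeroExt.snd_inl, TrivSqZeroExt.snd_inr, zero_add, hD i a ha]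
        rw [TrivSqZeroExt.snd_pow, ← Nat.cast_smul_eq_nsmul B, CharP.cast_eq_zero, zero_smul])
  have hfst : ∀ c : B, (v c).fst = c := by
    intro c
    have h2 : ((TrivSqZeroExt.fstHom ℤ B L).toRingHom.comp v.toRingHom) c = c := by
      let f : B →ₐ[A] B :=
        { (TrivSqZeroExt.fstHom ℤ B L).toRingHom.comp v.toRingHom with
          commutes' := fun a => by
            show (v (algebraMap A B a)).fst = _
            rw [AlgHom.commutes]
            show (φ a).fst = _
            simp [φ] }
      have : f = AlgHom.id A B := algHom_ext_mono b hb fun i => by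
        show (v (x i)).fst = x i
        simp [hv i]
      exact DFunLike.congr_fun this c
    exact h2
  let D0 : B →+ L :=
    { toFun := fun c => (v c).snd
      map_zero' := by simp
      map_add' := fun c d => by simp }
  refine ⟨Derivation.mk' D0.toIntLinearMap fun c d => ?_, fun a => ?_, fun i => ?_⟩
  · show (v (c * d)).snd = c • (v d).snd + d • (v c).snd
    rw [map_mul, TrivSqZeroExt.snd_mul, hfst, hfst]
    rfl
  · show (v (algebraMap A B a)).snd = D a
    rw [AlgHom.commutes]
    show (φ a).snd = _
    simp [φ]
  · show (v (x i)).snd = y i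
    simp [hv i]

end Derivation

end Groth.Agent.EGA41Lib
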