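import Groth.Agent.EGA41Lib.FrobLI
import Mathlib.LinearAlgebra.Dual.Lemmas
import Mathlib.FieldTheory.IntermediateField.Adjoin.Basic

/-!
# Differentials in a finite extension generated by `p`-th roots
-/

universe u

namespace Groth.Agent.EGA41Lib

open TensorProduct
open KaehlerDifferential (D mapBaseChange)

theorem finrank_ker_mapBaseChange_roots {p : ℕ} [hp : Fact p.Prime] {K K' : Type u} [Field K]
    [Field K'] [Algebra K K'] [CharP K' p] {ι : Type*} [Finite ι] (t : ι → K')
    (hgen : Algebra.adjoin K (Set.range t) = ⊤)
    (hpow : ∀ y : K', y ^ p ∈ Set.range (algebraMap K K')) :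
    Module.Finite K' (LinearMap.ker (mapBaseChange ℤ K K')) ∧ Module.Finite K' (Ω[K'⁄K]) ∧
      Module.finrank K' (LinearMap.ker (mapBaseChange ℤ K K')) = Module.finrank K' (Ω[K'⁄K]) := by
  classical
  have : CharP K p := ((algebraMap K K').charP_iff (RingHom.injective _) p).2 inferInstance
  obtain ⟨B, -, hBt, hB⟩ := exists_isPBasis_between (p := p) (k := K) (Set.range t) ∅
    (Set.empty_subset _) (by
      refine eq_top_iff.2 fun y htop => ?_
      clear htop
      have hy : y ∈ Algebra.adjoin K (Set.range t) := by rw [hgen]; trivial
      induction hy using Algebra.adjoin_induction with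
      | mem z hz => exact Subring.subset_closure (Or.inr hz)
      | algebraMap r => exact Subring.subset_closure (Or.inl (algebraMap_mem_pSub p K r))
      | add _ _ _ _ h1 h2 => exact Subring.add_mem _ h1 h2
      | mul _ _ _ _ h1 h2 => exact Subring.mul_mem _ h1 h2)
    (isPIndependent_empty (p := p) (k := K) (K := K'))
  have : Finite B := (Set.finite_range t).subset hBt
  have : Fintype B := Fintype.ofFinite B
  obtain ⟨bΩ, -⟩ := exists_basis_kaehler hB
  choose φ hφ using hpow
  have hφinj : Function.Injective φ := fun y z h =>
    frobenius_inj K' p (show y ^ p = z ^ p by rw [← hφ, ← hφ, h])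
  let φhom : K' →+* K :=
    { toFun := φ
      map_one' := (algebraMap K K').injective (by rw [hφ, one_pow, map_one])
      map_mul' := fun a b => (algebraMap K K').injective (by rw [map_mul, hφ, hφ, hφ, mul_pow])
      map_zero' := (algebraMap K K').injective (by rw [hφ, map_zero, zero_pow hp.out.ne_zero])
      map_add' := fun a b => (algebraMap K K').injective (by
        rw [map_add, hφ, hφ, hφ, add_pow_char]) }
  have hS : pSub p K K' = (algebraMap K K').range :=
    pSub_eq_range p K fun y => ⟨φ y, hφ y⟩
  have himg : (pSub p K K').map φhom = pSub p ℤ K := by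
    rw [hS, pSub_int_eq_range (K := K)]
    ext c
    simp only [Subring.mem_map, RingHom.mem_range, exists_exists_eq_and]
    refine exists_congr fun a => ?_
    have : φhom (algebraMap K K' a) = frobenius K p a :=
      (algebraMap K K').injective (by rw [frobenius_def, map_pow]; exact hφ _)
    rw [this]
  have hind : PIndep p ℤ (fun b : B => φhom (b : K')) := by
    have h := (ind_map_iff (f := φhom) hφinj (pSub p K K') (Subtype.val : B → K')).2 hB.1
    rw [himg] at h
    exact h
  rw [PIndep, ← PIndep, isPIndependent_iff_linearIndependent] at hind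
  let w : B → K' ⊗[K] Ω[K⁄ℤ] := fun b => (1 : K') ⊗ₜ[K] D ℤ K (φ b)
  have hw : LinearIndependent K' w := by
    rw [linearIndependent_iff]
    intro l hl
    let bsp := Module.Basis.span hind
    let incl := (Submodule.span K (Set.range fun b : B => D ℤ K (φhom (b : K')))).subtype.baseChange K'
    have hincl : Function.Injective incl :=
      Module.Flat.lTensor_preserves_injective_linearMap _ Subtype.val_injective
    have h2 := (bsp.baseChange K').linearIndependent.map' incl (LinearMap.ker_eq_bot.2 hincl)
    refine linearIndependent_iff.1 h2 l ?_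
    rw [← hl]
    congr 1
    congr 1
    funext b
    show incl (bsp.baseChange K' b) = w b
    rw [Module.Basis.baseChange_apply, LinearMap.baseChange_tmul, Submodule.subtype_apply,
      Module.Basis.span_apply]
    rfl
  have hker : LinearMap.ker (mapBaseChange ℤ K K') = Submodule.span K' (Set.range w) := by
    refine le_antisymm (fun z hz => ?_) ?_
    · by_contra hzn
      obtain ⟨ψ, hψz, hψ⟩ := Submodule.exists_dual_map_eq_bot_of_notMem hzn inferInstance
      have hψw : ∀ b, ψ (w b) = 0 := fun b => by
        have : ψ (w b) ∈ (Submodule.span K' (Set.range w)).map ψ :=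
          Submodule.mem_map_of_mem (Submodule.subset_span ⟨b, rfl⟩)
        rwa [hψ, Submodule.mem_bot] at this
      let δ : Derivation ℤ K K' :=
        ((ψ.restrictScalars K).comp (TensorProduct.mk K K' (Ω[K⁄ℤ]) 1)).compDer (D ℤ K)
      obtain ⟨bb, hbb⟩ := exists_basis_of_isPBasis p K (Subtype.val : B → K')
        (algebraMap K K').injective (fun y => ⟨φ y, hφ y⟩) hB
      obtain ⟨δ', hδ', -⟩ := exists_derivation bb hbb (fun i => ⟨φ i, hφ i⟩) δ
        (fun i a ha => by
          have : a = φ i := (algebraMap K K').injective (ha.trans (hφ i).symm)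
          rw [this]
          exact hψw i) 0
      have key : δ'.liftKaehlerDifferential.comp (mapBaseChange ℤ K K') = ψ := by
        refine TensorProduct.AlgebraTensorModule.curry_injective
          (LinearMap.ext_ring (LinearMap.ext_on (KaehlerDifferential.span_range_derivation ℤ K) ?_))
        rintro _ ⟨a, rfl⟩
        simp [hδ', δ]
      exact hψz (by rw [← key, LinearMap.comp_apply, LinearMap.mem_ker.1 hz, map_zero])
    · rw [Submodule.span_le]
      rintro _ ⟨b, rfl⟩
      show mapBaseChange ℤ K K' ((1 : K') ⊗ₜ[K] D ℤ K (φ b)) = 0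
      rw [KaehlerDifferential.mapBaseChange_tmul, KaehlerDifferential.map_D, one_smul, hφ,
        Derivation.leibniz_pow, ← Nat.cast_smul_eq_nsmul K', CharP.cast_eq_zero, zero_smul]
  rw [hker]
  refine ⟨Module.Finite.span_of_finite K' (Set.finite_range w), Module.Finite.of_basis bΩ, ?_⟩
  rw [finrank_span_eq_card hw, Module.finrank_eq_card_basis bΩ]

end Groth.Agent.EGA41Lib
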