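import Groth.Agent.EGA41Lib.RootLinAlg
import Groth.Agent.EGA41Lib.ResidueSeq
import Groth.Agent.EGA41Lib.RootField
import Mathlib.RingTheory.MvPolynomial.Basic
import Mathlib.RingTheory.Polynomial.Basic
import Mathlib.Algebra.TrivSqZeroExt.Basic
import Mathlib.RingTheory.LocalRing.ResidueField.Basic

/-!
# Adjoining `p`-th roots to a local ring of characteristic `p`
-/

universe u

namespace Groth.Agent.EGA41Lib

open TensorProduct IsLocalRing MvPolynomial
open KaehlerDifferential (D mapBaseChange)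

variable (p : ℕ) {A : Type u} [CommRing A] {ι : Type} (f : ι → A)

/-- The ideal `(T_i ^ p - f_i)`. -/
noncomputable abbrev rootIdeal : Ideal (MvPolynomial ι A) :=
  Ideal.span (Set.range fun i => X i ^ p - C (f i))

/-- `A[T]/(T_i ^ p - f_i)`. -/
noncomputable abbrev RootExt : Type u := MvPolynomial ι A ⧸ rootIdeal p f

/-- The adjoined roots. -/
noncomputable def root (i : ι) : RootExt p f := Ideal.Quotient.mk _ (X i)

theorem root_pow (i : ι) : root p f i ^ p = algebraMap A (RootExt p f) (f i) := by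
  rw [root, ← map_pow, show algebraMap A (RootExt p f) (f i) =
    Ideal.Quotient.mk (rootIdeal p f) (C (f i)) from rfl]
  exact (Ideal.Quotient.mk_eq_mk_iff_sub_mem _ _).2 (Ideal.subset_span ⟨i, rfl⟩)

theorem rootExt_induction {P : RootExt p f → Prop} (hC : ∀ a, P (algebraMap A _ a))
    (hadd : ∀ x y, P x → P y → P (x + y)) (hmul : ∀ x i, P x → P (x * root p f i))
    (x : RootExt p f) : P x := by
  obtain ⟨q, rfl⟩ := Ideal.Quotient.mk_surjective x
  induction q using MvPolynomial.induction_on with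
  | C a => exact hC a
  | add q r hq hr => rw [map_add]; exact hadd _ _ hq hr
  | mul_X q i hq => rw [map_mul]; exact hmul _ i hq

variable [hp : Fact p.Prime] [IsLocalRing A] [CharP A p]

theorem charP_residueField : CharP (ResidueField A) p :=
  (CharP.charP_iff_prime_eq_zero hp.out).2 (by
    rw [← map_natCast (residue A), CharP.cast_eq_zero, map_zero])

theorem exists_evalRoot :
    ∃ φ : RootExt p f →+* AlgebraicClosure (ResidueField A),
      ∀ a, φ (algebraMap A _ a) = algebraMap (ResidueField A) _ (residue A a) := by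
  choose r hr using fun i => IsAlgClosed.exists_pow_nat_eq
    (algebraMap (ResidueField A) (AlgebraicClosure (ResidueField A)) (residue A (f i))) hp.out.pos
  let g := eval₂Hom ((algebraMap (ResidueField A)
    (AlgebraicClosure (ResidueField A))).comp (residue A)) r
  have hker : rootIdeal p f ≤ RingHom.ker g := by
    rw [Ideal.span_le]
    rintro _ ⟨i, rfl⟩
    simp [g, hr]
  exact ⟨Ideal.Quotient.lift _ g fun q hq => hker hq, fun a => eval₂Hom_C _ _ a⟩

theorem nontrivial_rootExt : Nontrivial (RootExt p f) := by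
  obtain ⟨φ, -⟩ := exists_evalRoot p f
  exact φ.domain_nontrivial

theorem charP_rootExt : CharP (RootExt p f) p := by
  have := nontrivial_rootExt p f
  exact (CharP.charP_iff_prime_eq_zero hp.out).2 (by
    rw [← map_natCast (algebraMap A (RootExt p f)), CharP.cast_eq_zero, map_zero])

theorem pow_mem_range (x : RootExt p f) : x ^ p ∈ (algebraMap A (RootExt p f)).range := by
  have := charP_rootExt p f
  induction x using rootExt_induction with
  | hC a => exact ⟨a ^ p, map_pow _ _ _⟩
  | hadd x y hx hy => rw [add_pow_char]; exact add_mem hx hy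
  | hmul x i hx => rw [mul_pow, root_pow]; exact mul_mem hx ⟨f i, rfl⟩

theorem isLocalHom_rootExt : IsLocalHom (algebraMap A (RootExt p f)) := by
  refine ⟨fun a ha => ?_⟩
  obtain ⟨φ, hφ⟩ := exists_evalRoot p f
  have h2 := ha.map φ
  rw [hφ] at h2
  by_contra h
  rw [(residue_eq_zero_iff a).2 h, map_zero] at h2
  exact not_isUnit_zero h2

theorem isLocalRing_rootExt : IsLocalRing (RootExt p f) := by
  have := nontrivial_rootExt p f
  have := charP_rootExt p f
  have := isLocalHom_rootExt p f
  refine IsLocalRing.of_nonunits_add fun x y hx hy => ?_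
  obtain ⟨a, ha⟩ := pow_mem_range p f x
  obtain ⟨b, hb⟩ := pow_mem_range p f y
  have hna : a ∈ nonunits A := fun h => hx
    ((isUnit_pow_iff hp.out.ne_zero).1 (ha ▸ h.map _))
  have hnb : b ∈ nonunits A := fun h => hy
    ((isUnit_pow_iff hp.out.ne_zero).1 (hb ▸ h.map _))
  intro hxy
  have h2 : IsUnit ((x + y) ^ p) := hxy.pow p
  rw [add_pow_char, ← ha, ← hb, ← map_add] at h2
  exact IsLocalRing.nonunits_add hna hnb (isUnit_of_map_unit _ _ h2)

theorem finrank_cotangentSpace_rootExt [IsNoetherianRing A] [Fintype ι]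
    [IsLocalRing (RootExt p f)] [IsLocalHom (algebraMap A (RootExt p f))]
    [IsNoetherianRing (RootExt p f)] :
    Module.finrank (ResidueField (RootExt p f)) (CotangentSpace (RootExt p f)) +
      Module.finrank (ResidueField (RootExt p f)) (Submodule.span (ResidueField (RootExt p f))
        (Set.range fun i => (1 : ResidueField (RootExt p f)) ⊗ₜ[ResidueField A]
          ((1 : ResidueField A) ⊗ₜ[A] D ℤ A (f i)))) =
      Module.finrank (ResidueField A) (CotangentSpace A) + Fintype.card ι := by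
  classical
  let B := RootExt p f
  let K := ResidueField A
  let K' := ResidueField B
  have : CharP B p := charP_rootExt p f
  have : CharP K p := charP_residueField p
  have : CharP K' p := charP_of_injective_algebraMap (RingHom.injective (algebraMap K K')) p
  let t : ι → K' := fun i => residue B (root p f i)
  have htp : ∀ i, t i ^ p = algebraMap A K' (f i) := fun i => by
    show residue B _ ^ p = _
    rw [← map_pow, root_pow]
    rfl
  have hgen : Algebra.adjoin K (Set.range t) = ⊤ := by
    refine eq_top_iff.2 fun y _ => ?_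
    obtain ⟨x, rfl⟩ := residue_surjective y
    induction x using rootExt_induction with
    | hC a =>
      exact (Algebra.adjoin K (Set.range t)).algebraMap_mem (residue A a)
    | hadd x y hx hy => rw [map_add]; exact add_mem (hx trivial) (hy trivial)
    | hmul x i hx => rw [map_mul]; exact mul_mem (hx trivial) (Algebra.subset_adjoin ⟨i, rfl⟩)
  have hpow : ∀ y : K', y ^ p ∈ Set.range (algebraMap K K') := fun y => by
    obtain ⟨x, rfl⟩ := residue_surjective y
    obtain ⟨a, ha⟩ := pow_mem_range p f x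
    exact ⟨residue A a, by rw [← map_pow, ← ha]; rfl⟩
  obtain ⟨hfu, _, hkeru⟩ := finrank_ker_mapBaseChange_roots t hgen hpow
  obtain ⟨_, hA⟩ := finrank_cotangentSpace_eq p A
  obtain ⟨hfB, hB⟩ := finrank_cotangentSpace_eq p B
  let u := mapBaseChange ℤ K K'
  let a := (mapBaseChange ℤ A K).baseChange K'
  have ha : Function.Surjective a :=
    LinearMap.lTensor_surjective K'
      (KaehlerDifferential.mapBaseChange_surjective ℤ A K residue_surjective)
  obtain ⟨_, hkera⟩ := finrank_ker_baseChange (L := K') (mapBaseChange ℤ A K)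
  have : Module.Finite K' (LinearMap.ker u) := hfu
  obtain ⟨_, hua⟩ := finrank_ker_comp a ha u
  let W : Submodule K' (K' ⊗[K] (K ⊗[A] Ω[A⁄ℤ])) :=
    Submodule.span K' (Set.range fun i => (1 : K') ⊗ₜ[K] ((1 : K) ⊗ₜ[A] D ℤ A (f i)))
  have hsm : ∀ (c : A) (v : Ω[A⁄ℤ]), (1 : K') ⊗ₜ[K] ((1 : K) ⊗ₜ[A] (c • v)) =
      algebraMap A K' c • ((1 : K') ⊗ₜ[K] ((1 : K) ⊗ₜ[A] v)) := by
    intro c v
    rw [TensorProduct.tmul_smul, ← algebraMap_smul K c ((1 : K) ⊗ₜ[A] v), TensorProduct.tmul_smul,
      ← algebraMap_smul K' (algebraMap A K c), ← IsScalarTower.algebraMap_apply]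
  let Φ0 : A →+* TrivSqZeroExt K' (((K' ⊗[K] (K ⊗[A] Ω[A⁄ℤ])) ⧸ W) × (ι → K')) :=
    { toFun := fun c => TrivSqZeroExt.inl (algebraMap A K' c) +
        TrivSqZeroExt.inr (W.mkQ ((1 : K') ⊗ₜ[K] ((1 : K) ⊗ₜ[A] D ℤ A c)), (0 : ι → K'))
      map_one' := by simp [Prod.mk_zero_zero]
      map_zero' := by simp [Prod.mk_zero_zero]
      map_add' := fun c d => by
        ext <;> simp [TensorProduct.tmul_add]
      map_mul' := fun c d => by
        refine TrivSqZeroExt.ext (by simp [TrivSqZeroExt.fst_mul]) ?_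
        simp only [TrivSqZeroExt.snd_mul, TrivSqZeroExt.fst_add, TrivSqZeroExt.snd_add,
          TrivSqZeroExt.fst_inl, TrivSqZeroExt.snd_inl, TrivSqZeroExt.fst_inr, TrivSqZeroExt.snd_inr,
          add_zero, zero_add, op_smul_eq_smul]
        rw [Derivation.leibniz, TensorProduct.tmul_add, TensorProduct.tmul_add, hsm, hsm, map_add,
          map_smul, map_smul]
        simp only [Prod.smul_mk, Prod.mk_add_mk, smul_zero, add_zero] }
  let Φ1 := eval₂Hom Φ0 fun i => TrivSqZeroExt.inl (t i) +
    TrivSqZeroExt.inr ((0 : (K' ⊗[K] (K ⊗[A] Ω[A⁄ℤ])) ⧸ W), Pi.single i (1 : K'))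
  have hWf : ∀ i, W.mkQ ((1 : K') ⊗ₜ[K] ((1 : K) ⊗ₜ[A] D ℤ A (f i))) = 0 := fun i =>
    (Submodule.Quotient.mk_eq_zero _).2 (Submodule.subset_span ⟨i, rfl⟩)
  have hkerΦ : rootIdeal p f ≤ RingHom.ker Φ1 := by
    rw [Ideal.span_le]
    rintro _ ⟨i, rfl⟩
    simp only [SetLike.mem_coe, RingHom.mem_ker, map_sub, map_pow, Φ1, eval₂Hom_X', eval₂Hom_C,
      sub_eq_zero]
    refine TrivSqZeroExt.ext ?_ ?_
    · simp [Φ0, htp i, TrivSqZeroExt.fst_pow]
    · rw [TrivSqZeroExt.snd_pow, ← Nat.cast_smul_eq_nsmul K', CharP.cast_eq_zero, zero_smul]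
      simp only [Φ0, RingHom.coe_mk, MonoidHom.coe_mk, OneHom.coe_mk, TrivSqZeroExt.snd_add,
        TrivSqZeroExt.snd_inl, TrivSqZeroExt.snd_inr, zero_add, hWf i]
      rfl
  let Φ : B →+* TrivSqZeroExt K' (((K' ⊗[K] (K ⊗[A] Ω[A⁄ℤ])) ⧸ W) × (ι → K')) := Ideal.Quotient.lift (rootIdeal p f) Φ1 fun q hq => hkerΦ hq
  have hΦC : ∀ c, Φ (algebraMap A B c) = Φ0 c := fun c => eval₂Hom_C _ _ c
  have hΦT : ∀ i, Φ (root p f i) = TrivSqZeroExt.inl (t i) +
      TrivSqZeroExt.inr ((0 : (K' ⊗[K] (K ⊗[A] Ω[A⁄ℤ])) ⧸ W), Pi.single i (1 : K')) :=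
    fun i => eval₂Hom_X' _ _ i
  have hfst : ∀ x : B, (Φ x).fst = residue B x := by
    intro x
    induction x using rootExt_induction with
    | hC c =>
      refine (congrArg TrivSqZeroExt.fst (hΦC c)).trans ?_
      simp only [Φ0, RingHom.coe_mk, MonoidHom.coe_mk, OneHom.coe_mk, TrivSqZeroExt.fst_add,
        TrivSqZeroExt.fst_inl, TrivSqZeroExt.fst_inr, add_zero]
      rfl
    | hadd x y hx hy => simp [hx, hy]
    | hmul x i hx => simp [hx, hΦT, TrivSqZeroExt.fst_mul, t]
  let DB0 : B →+ (((K' ⊗[K] (K ⊗[A] Ω[A⁄ℤ])) ⧸ W) × (ι → K')) :=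
    { toFun := fun x => (Φ x).snd
      map_zero' := by simp
      map_add' := fun x y => by simp }
  let DB : Derivation ℤ B (((K' ⊗[K] (K ⊗[A] Ω[A⁄ℤ])) ⧸ W) × (ι → K')) := Derivation.mk' DB0.toIntLinearMap fun x y => by
    show (Φ (x * y)).snd = x • (Φ y).snd + y • (Φ x).snd
    rw [map_mul, TrivSqZeroExt.snd_mul, hfst, hfst, op_smul_eq_smul,
      ← ResidueField.algebraMap_eq, algebraMap_smul, algebraMap_smul]
  let Θ := DB.liftKaehlerDifferential.liftBaseChange K'
  let ξ : Ω[A⁄ℤ] →ₗ[A] K' ⊗[B] Ω[B⁄ℤ] :=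
    { toFun := fun v => (1 : K') ⊗ₜ[B] KaehlerDifferential.map ℤ ℤ A B v
      map_add' := fun v v' => by rw [map_add, TensorProduct.tmul_add]
      map_smul' := fun c v => by
        rw [map_smul, RingHom.id_apply, ← algebraMap_smul B c (KaehlerDifferential.map ℤ ℤ A B v),
          TensorProduct.tmul_smul, TensorProduct.smul_tmul', algebraMap_smul,
          ← TensorProduct.smul_tmul'] }
  let Ξ0 : K ⊗[A] Ω[A⁄ℤ] →ₗ[K] K' ⊗[B] Ω[B⁄ℤ] := ξ.liftBaseChange K
  let ΞX := Ξ0.liftBaseChange K'
  have hΞX : ∀ c, ΞX ((1 : K') ⊗ₜ[K] ((1 : K) ⊗ₜ[A] D ℤ A c)) =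
      (1 : K') ⊗ₜ[B] D ℤ B (algebraMap A B c) := fun c => by
    simp [ΞX, Ξ0, ξ]
  have hW : W ≤ LinearMap.ker ΞX := by
    rw [Submodule.span_le]
    rintro _ ⟨i, rfl⟩
    show ΞX _ = 0
    have h0 : D ℤ B (root p f i ^ p) = 0 := by
      rw [Derivation.leibniz_pow, ← Nat.cast_smul_eq_nsmul B, CharP.cast_eq_zero]
      exact zero_smul B (root p f i ^ (p - 1) • D ℤ B (root p f i))
    rw [hΞX, ← root_pow, h0, TensorProduct.tmul_zero]
  let Ξ : (((K' ⊗[K] (K ⊗[A] Ω[A⁄ℤ])) ⧸ W) × (ι → K')) →ₗ[K'] K' ⊗[B] Ω[B⁄ℤ] :=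
    (W.liftQ ΞX hW).coprod (Fintype.linearCombination K' fun i => (1 : K') ⊗ₜ[B] D ℤ B (root p f i))
  have hΞDB : ∀ x : B, Ξ (DB x) = (1 : K') ⊗ₜ[B] D ℤ B x := by
    intro x
    induction x using rootExt_induction with
    | hC c =>
      show Ξ (Φ (algebraMap A B c)).snd = _
      simp [hΦC, Φ0, Ξ, hΞX]
      rfl
    | hadd x y hx hy => simp [map_add, TensorProduct.tmul_add, hx, hy]
    | hmul x i hx =>
      have hT : Ξ (DB (root p f i)) = (1 : K') ⊗ₜ[B] D ℤ B (root p f i) := by
        show Ξ (Φ (root p f i)).snd = _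
        simp [hΦT, Ξ, Fintype.linearCombination_apply_single]
      rw [DB.leibniz, (D ℤ B).leibniz, map_add, TensorProduct.tmul_add, LinearMap.map_smul_of_tower,
        LinearMap.map_smul_of_tower, hx, hT, TensorProduct.tmul_smul, TensorProduct.tmul_smul]
  have hΞΘ : Ξ.comp Θ = LinearMap.id := by
    refine TensorProduct.AlgebraTensorModule.curry_injective
      (LinearMap.ext_ring (LinearMap.ext_on (KaehlerDifferential.span_range_derivation ℤ B) ?_))
    rintro _ ⟨x, rfl⟩
    simpa [Θ] using hΞDB x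
  have hΞsurj : Function.Surjective Ξ := fun z => ⟨Θ z, LinearMap.congr_fun hΞΘ z⟩
  have hΘΞ : Θ.comp Ξ = LinearMap.id := by
    refine LinearMap.prod_ext ?_ ?_
    · refine Submodule.linearMap_qext _ ?_
      refine TensorProduct.AlgebraTensorModule.curry_injective (LinearMap.ext_ring ?_)
      refine TensorProduct.AlgebraTensorModule.curry_injective
        (LinearMap.ext_ring (LinearMap.ext_on (KaehlerDifferential.span_range_derivation ℤ A) ?_))
      rintro _ ⟨c, rfl⟩
      show Θ (Ξ (W.mkQ ((1 : K') ⊗ₜ[K] ((1 : K) ⊗ₜ[A] D ℤ A c)), 0)) = _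
      simp only [Ξ, LinearMap.coprod_apply, map_zero, add_zero, Submodule.mkQ_apply,
        Submodule.liftQ_apply, hΞX]
      simp only [Θ, LinearMap.liftBaseChange_tmul, one_smul,
        Derivation.liftKaehlerDifferential_comp_D]
      show (Φ (algebraMap A B c)).snd = _
      simp [hΦC, Φ0]
    · refine (Pi.basisFun K' ι).ext fun i => ?_
      simp only [Pi.basisFun_apply, LinearMap.comp_apply, LinearMap.inr_apply, LinearMap.id_apply,
        Ξ, LinearMap.coprod_apply, map_zero, zero_add, Fintype.linearCombination_apply_single,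
        one_smul, Θ, LinearMap.liftBaseChange_tmul, Derivation.liftKaehlerDifferential_comp_D]
      show (Φ (root p f i)).snd = _
      simp [hΦT]
  have hΞinj : LinearMap.ker Ξ = ⊥ := LinearMap.ker_eq_bot.2
    (Function.LeftInverse.injective fun z => LinearMap.congr_fun hΘΞ z)
  have : Module.Finite K' (LinearMap.ker Ξ) := by rw [hΞinj]; infer_instance
  let u' := mapBaseChange ℤ B K'
  have : Module.Finite K' (LinearMap.ker u') := hfB
  obtain ⟨_, hψ0⟩ := finrank_ker_comp Ξ hΞsurj u'
  let π : (K' ⊗[K] (K ⊗[A] Ω[A⁄ℤ])) × (ι → K') →ₗ[K'] (((K' ⊗[K] (K ⊗[A] Ω[A⁄ℤ])) ⧸ W) × (ι → K')) := W.mkQ.prodMap LinearMap.id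
  have hπ : Function.Surjective π := fun ⟨x, v⟩ => by
    obtain ⟨x, rfl⟩ := W.mkQ_surjective x
    exact ⟨(x, v), rfl⟩
  have hkerπ : LinearMap.ker π = W.map (LinearMap.inl K' _ (ι → K')) := by
    ext ⟨x, v⟩
    simp [π]
  have : Module.Finite K' W := Module.Finite.span_of_finite K' (Set.finite_range _)
  have : Module.Finite K' (LinearMap.ker π) := hkerπ ▸ inferInstance
  have hπrank : Module.finrank K' (LinearMap.ker π) = Module.finrank K' W := by
    rw [hkerπ]
    exact (W.equivMapOfInjective _ LinearMap.inl_injective).finrank_eq.symm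
  obtain ⟨_, hcomp⟩ := finrank_ker_comp π hπ (u'.comp Ξ)
  let τ : (ι → K') →ₗ[K'] Ω[K'⁄ℤ] := Fintype.linearCombination K' fun i => D ℤ K' (t i)
  have heq : (u'.comp Ξ).comp π = (u.comp a).coprod τ := by
    refine LinearMap.prod_ext ?_ ?_
    · refine TensorProduct.AlgebraTensorModule.curry_injective (LinearMap.ext_ring ?_)
      refine TensorProduct.AlgebraTensorModule.curry_injective
        (LinearMap.ext_ring (LinearMap.ext_on (KaehlerDifferential.span_range_derivation ℤ A) ?_))
      rintro _ ⟨c, rfl⟩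
      simp [π, Ξ, hΞX, u', u, a, ← IsScalarTower.algebraMap_apply]
    · refine (Pi.basisFun K' ι).ext fun i => ?_
      simp [π, Ξ, τ, u', t, Fintype.linearCombination_apply_single]
      rfl
  have hrange : LinearMap.range (u.comp a) = LinearMap.range u := by
    rw [LinearMap.range_comp, LinearMap.range_eq_top.2 ha, Submodule.map_top]
  have hsup : LinearMap.range (u.comp a) ⊔ LinearMap.range τ = ⊤ := by
    rw [hrange, eq_top_iff, ← KaehlerDifferential.span_range_derivation ℤ K', Submodule.span_le]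
    rintro _ ⟨y, rfl⟩
    have hy : y ∈ Algebra.adjoin K (Set.range t) := by rw [hgen]; trivial
    induction hy using Algebra.adjoin_induction with
    | mem z hz =>
      obtain ⟨i, rfl⟩ := hz
      exact Submodule.mem_sup_right ⟨Pi.single i 1, by simp [τ, Fintype.linearCombination_apply_single]⟩
    | algebraMap c => exact Submodule.mem_sup_left ⟨(1 : K') ⊗ₜ[K] D ℤ K c, by simp [u]⟩
    | add _ _ _ _ h1 h2 =>
      rw [SetLike.mem_coe, map_add]
      exact Submodule.add_mem _ h1 h2
    | mul c d _ _ h1 h2 =>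
      rw [SetLike.mem_coe, Derivation.leibniz]
      exact Submodule.add_mem _ (Submodule.smul_mem _ _ h2) (Submodule.smul_mem _ _ h1)
  obtain ⟨_, hco⟩ := finrank_ker_coprod (u.comp a) τ hsup
  have hquot : Module.finrank K' (Ω[K'⁄ℤ] ⧸ LinearMap.range (u.comp a)) =
      Module.finrank K' (Ω[K'⁄K]) := by
    rw [hrange]
    have h1 : LinearMap.range u = LinearMap.ker (KaehlerDifferential.map ℤ K K' K') :=
      (LinearMap.exact_iff.1 (KaehlerDifferential.exact_mapBaseChange_map ℤ K K')).symm
    rw [h1]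
    exact (LinearMap.quotKerEquivOfSurjective _
      (KaehlerDifferential.map_surjective ℤ K K')).finrank_eq
  rw [heq] at hcomp
  have h0 : Module.finrank K' (LinearMap.ker Ξ) = 0 := by rw [hΞinj]; exact finrank_bot _ _
  have hι : Module.finrank K' (ι → K') = Fintype.card ι := Module.finrank_pi K'
  show Module.finrank K' (CotangentSpace B) + Module.finrank K' W = _
  have e1 : Module.finrank K' (LinearMap.ker u') = Module.finrank K' (CotangentSpace B) := hB
  have e2 : Module.finrank K' (LinearMap.ker a) = Module.finrank K (CotangentSpace A) := hkera.trans hA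
  have e3 : Module.finrank K' (LinearMap.ker u) = Module.finrank K' (Ω[K'⁄K]) := hkeru
  show _ = Module.finrank K (CotangentSpace A) + Fintype.card ι
  omega

theorem finrank_cotangentSpace_rootExt_iff [IsNoetherianRing A] [Fintype ι]
    [IsLocalRing (RootExt p f)] [IsLocalHom (algebraMap A (RootExt p f))]
    [IsNoetherianRing (RootExt p f)] :
    (Module.finrank (ResidueField (RootExt p f)) (CotangentSpace (RootExt p f)) =
        Module.finrank (ResidueField A) (CotangentSpace A)) ↔
      LinearIndependent (ResidueField A)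
        (fun i => (1 : ResidueField A) ⊗ₜ[A] D ℤ A (f i)) := by
  have h := finrank_cotangentSpace_rootExt p f
  let K := ResidueField A
  let K' := ResidueField (RootExt p f)
  let v := fun i => (1 : K) ⊗ₜ[A] D ℤ A (f i)
  have hv : LinearIndependent K' (fun i => (1 : K') ⊗ₜ[K] v i) ↔ LinearIndependent K v := by
    constructor
    · intro h
      exact LinearIndependent.of_comp (TensorProduct.mk K K' _ 1)
        (h.restrict_scalars (R := K) (K := K') (fun a b hab => (algebraMap K K').injective (by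
          simpa [Algebra.smul_def] using hab)))
    · intro h
      rw [linearIndependent_iff]
      intro l hl
      let bsp := Module.Basis.span h
      have h2 := (bsp.baseChange K').linearIndependent.map'
        ((Submodule.span K (Set.range v)).subtype.baseChange K') (LinearMap.ker_eq_bot.2
          (Module.Flat.lTensor_preserves_injective_linearMap _ Subtype.val_injective))
      refine linearIndependent_iff.1 h2 l ?_
      rw [← hl]
      congr 1
      congr 1
      funext i
      simp [Module.Basis.baseChange_apply, Module.Basis.span_apply, bsp]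
  rw [← hv, linearIndependent_iff_card_eq_finrank_span, Set.finrank]
  simp only [K, K', v] at *
  constructor
  · intro he
    omega
  · intro he
    omega

end Groth.Agent.EGA41Lib
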