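import Groth.Agent.EGA41Lib.RootExt
import Groth.Agent.RegularSerre.Localization
import Groth.Agent.DimTrdeg.Basic
import Mathlib.RingTheory.Nakayama
import Mathlib.RingTheory.Ideal.GoingUp

/-!
# Adjoining deformed `p`-th roots to a regular local ring
-/

universe u

namespace Groth.Agent.EGA41Lib

open TensorProduct IsLocalRing MvPolynomial
open KaehlerDifferential (D mapBaseChange)

/-- A quotient by an ideal inside the square of the maximal ideal keeps the embedding dimension. -/
theorem spanFinrank_maximalIdeal_of_ker_le_sq {R S : Type u} [CommRing R] [CommRing S]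
    [IsLocalRing R] [IsLocalRing S] [IsNoetherianRing R] [IsNoetherianRing S] (g : R →+* S)
    (hg : Function.Surjective g) (hk : RingHom.ker g ≤ maximalIdeal R ^ 2) :
    (maximalIdeal S).spanFinrank = (maximalIdeal R).spanFinrank := by
  classical
  have hkm : RingHom.ker g ≤ maximalIdeal R := hk.trans (Ideal.pow_le_self two_ne_zero)
  have hmap : (maximalIdeal R).map g = maximalIdeal S :=
    eq_maximalIdeal (Ideal.IsMaximal.map_of_surjective_of_ker_le hg hkm)
  have hfgR : (maximalIdeal R).FG := IsNoetherian.noetherian _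
  have hfgS : (maximalIdeal S).FG := IsNoetherian.noetherian _
  refine le_antisymm ?_ ?_
  · rw [← hmap]
    conv_lhs => rw [← Submodule.span_generators (maximalIdeal R)]
    rw [← Ideal.span, Ideal.map_span]
    refine (Submodule.spanFinrank_span_le_ncard_of_finite
      ((Submodule.FG.finite_generators hfgR).image _)).trans ?_
    exact (Set.ncard_image_le (Submodule.FG.finite_generators hfgR)).trans
      (le_of_eq (Submodule.FG.generators_ncard hfgR))
  · let G := Submodule.generators (maximalIdeal S)
    choose l hl using fun s : S => hg s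
    have hspan : Ideal.span (l '' G) = maximalIdeal R := by
      have hle : Ideal.span (l '' G) ≤ maximalIdeal R := by
        rw [Ideal.span_le]
        rintro _ ⟨s, hs, rfl⟩
        have hs' : s ∈ maximalIdeal S :=
          (Submodule.span_generators (maximalIdeal S)) ▸ Submodule.subset_span hs
        rw [← hmap, Ideal.mem_map_iff_of_surjective g hg] at hs'
        obtain ⟨r, hr, hrs⟩ := hs'
        have : l s - r ∈ RingHom.ker g := by
          rw [RingHom.mem_ker, map_sub, hl, hrs, sub_self]
        simpa using add_mem (hkm this) hr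
      refine le_antisymm hle ?_
      refine Submodule.le_of_le_smul_of_le_jacobson_bot hfgR (maximalIdeal_le_jacobson _) ?_
      intro r hr
      have h1 : g r ∈ (Ideal.span (l '' G)).map g := by
        have e : g '' (l '' G) = G := by
          rw [← Set.image_comp]
          simp [Function.comp_def, hl]
        rw [Ideal.map_span, e, Ideal.span, Submodule.span_generators, ← hmap]
        exact Ideal.mem_map_of_mem g hr
      obtain ⟨r', hr', hrr'⟩ := (Ideal.mem_map_iff_of_surjective g hg).1 h1
      have h2 : r - r' ∈ maximalIdeal R • maximalIdeal R := by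
        rw [smul_eq_mul, ← pow_two]
        exact hk (by rw [RingHom.mem_ker, map_sub, hrr', sub_self])
      rw [show r = r' + (r - r') by ring]
      exact Submodule.add_mem_sup hr' h2
    rw [← hspan]
    refine (Submodule.spanFinrank_span_le_ncard_of_finite
      ((Submodule.FG.finite_generators hfgS).image _)).trans ?_
    exact (Set.ncard_image_le (Submodule.FG.finite_generators hfgS)).trans
      (le_of_eq (Submodule.FG.generators_ncard hfgS))

/-- Differentials at the residue field do not see the square of the maximal ideal. -/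
theorem linearIndependent_kaehler_sq {A : Type u} [CommRing A] [IsLocalRing A]
    [IsLocalRing (A ⧸ maximalIdeal A ^ 2)] {ι : Type} (f : ι → A) :
    LinearIndependent (ResidueField A) (fun i => (1 : ResidueField A) ⊗ₜ[A] D ℤ A (f i)) ↔
      LinearIndependent (ResidueField (A ⧸ maximalIdeal A ^ 2))
        (fun i => (1 : ResidueField (A ⧸ maximalIdeal A ^ 2)) ⊗ₜ[A ⧸ maximalIdeal A ^ 2]
          D ℤ (A ⧸ maximalIdeal A ^ 2) (Ideal.Quotient.mk _ (f i))) := by
  let Ā := A ⧸ maximalIdeal A ^ 2
  let q : A →+* Ā := Ideal.Quotient.mk _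
  have hq : Function.Surjective q := Ideal.Quotient.mk_surjective
  have : IsLocalHom (algebraMap A Ā) := IsLocalHom.of_surjective q hq
  let σ : ResidueField A →+* ResidueField Ā := algebraMap (ResidueField A) (ResidueField Ā)
  have hσres : ∀ a, σ (residue A a) = residue Ā (q a) := fun a => rfl
  have hσ : Function.Bijective σ := by
    refine ⟨RingHom.injective σ, fun y => ?_⟩
    obtain ⟨y, rfl⟩ := residue_surjective y
    obtain ⟨a, rfl⟩ := hq y
    exact ⟨residue A a, hσres a⟩
  let σe := RingEquiv.ofBijective σ hσ
  let φ : Ω[A⁄ℤ] →ₗ[A] ResidueField Ā ⊗[Ā] Ω[Ā⁄ℤ] :=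
    { toFun := fun v => (1 : ResidueField Ā) ⊗ₜ[Ā] KaehlerDifferential.map ℤ ℤ A Ā v
      map_add' := fun v v' => by rw [map_add, TensorProduct.tmul_add]
      map_smul' := fun c v => by
        rw [map_smul, RingHom.id_apply, ← algebraMap_smul Ā c (KaehlerDifferential.map ℤ ℤ A Ā v),
          TensorProduct.tmul_smul, TensorProduct.smul_tmul', algebraMap_smul,
          ← TensorProduct.smul_tmul'] }
  let g := φ.liftBaseChange (ResidueField A)
  have hg : Function.Injective g := by
    rw [injective_iff_map_eq_zero]
    intro z hz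
    by_contra hz0
    obtain ⟨ψ, hψ⟩ := Module.Projective.exists_dual_ne_zero (ResidueField A) hz0
    have hm2 : ∀ a ∈ maximalIdeal A ^ 2, σ (ψ ((1 : ResidueField A) ⊗ₜ[A] D ℤ A a)) = 0 := by
      intro a ha
      suffices (1 : ResidueField A) ⊗ₜ[A] D ℤ A a = 0 by rw [this, map_zero, map_zero]
      rw [pow_two] at ha
      refine Submodule.mul_induction_on ha (fun x hx y hy => ?_) (fun x y hx hy => ?_)
      ·
        rw [Derivation.leibniz, TensorProduct.tmul_add, TensorProduct.tmul_smul,
          TensorProduct.tmul_smul, ← algebraMap_smul (ResidueField A) x,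
          ← algebraMap_smul (ResidueField A) y, show algebraMap A (ResidueField A) x = 0 from
            (residue_eq_zero_iff x).2 hx, show algebraMap A (ResidueField A) y = 0 from
            (residue_eq_zero_iff y).2 hy, zero_smul, zero_smul, add_zero]
      · rw [map_add, TensorProduct.tmul_add, hx, hy, add_zero]
    let δ0 : A →+ ResidueField Ā :=
      { toFun := fun a => σ (ψ ((1 : ResidueField A) ⊗ₜ[A] D ℤ A a))
        map_zero' := by simp
        map_add' := fun a b => by simp [TensorProduct.tmul_add] }
    let δ1 : Ā →+ ResidueField Ā := QuotientAddGroup.lift _ δ0 (fun a ha => hm2 a ha)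
    have hδ : ∀ a, δ1 (q a) = σ (ψ ((1 : ResidueField A) ⊗ₜ[A] D ℤ A a)) := fun a => rfl
    let δ : Derivation ℤ Ā (ResidueField Ā) := Derivation.mk' δ1.toIntLinearMap fun x y => by
      obtain ⟨a, rfl⟩ := hq x
      obtain ⟨b, rfl⟩ := hq y
      show δ1 (q a * q b) = q a • δ1 (q b) + q b • δ1 (q a)
      rw [← map_mul, hδ, hδ, hδ, Derivation.leibniz, TensorProduct.tmul_add, TensorProduct.tmul_smul,
        TensorProduct.tmul_smul, ← algebraMap_smul (ResidueField A) a,
        ← algebraMap_smul (ResidueField A) b, map_add, map_smul, map_smul, map_add, smul_eq_mul,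
        smul_eq_mul, map_mul, map_mul]
      rfl
    let Ψ := δ.liftKaehlerDifferential.liftBaseChange (ResidueField Ā)
    have key : ∀ v, Ψ (g v) = σ (ψ v) := by
      intro v
      induction v using TensorProduct.induction_on with
      | zero => simp
      | tmul c w =>
        rw [show c ⊗ₜ[A] w = c • ((1 : ResidueField A) ⊗ₜ[A] w) from by
          rw [TensorProduct.smul_tmul', smul_eq_mul, mul_one]]
        rw [g.map_smul, LinearMap.map_smul_of_tower, Algebra.smul_def, ψ.map_smul, smul_eq_mul,
          map_mul]
        congr 1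
        have hw : w ∈ Submodule.span A (Set.range (D ℤ A)) := by
          rw [KaehlerDifferential.span_range_derivation]; trivial
        induction hw using Submodule.span_induction with
        | mem w hw =>
          obtain ⟨a, rfl⟩ := hw
          simp only [g, LinearMap.liftBaseChange_tmul, one_smul, φ, LinearMap.coe_mk, AddHom.coe_mk,
            KaehlerDifferential.map_D, Ψ, Derivation.liftKaehlerDifferential_comp_D]
          exact hδ a
        | zero => simp
        | add _ _ _ _ h h' => simp [TensorProduct.tmul_add, map_add, h, h']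
        | smul a w _ h =>
          rw [TensorProduct.tmul_smul, ← algebraMap_smul (ResidueField A) a, g.map_smul,
            LinearMap.map_smul_of_tower, h, Algebra.smul_def, ψ.map_smul, smul_eq_mul, map_mul]
      | add v v' h h' => simp [map_add, h, h']
    have h1 := key z
    rw [hz, map_zero] at h1
    exact hψ (σ.injective (by rw [← h1, map_zero]))
  refine (linearIndependent_congr_ringHom σ hσ g.toAddMonoidHom hg
    (fun c v => (g.map_smul c v).trans (algebraMap_smul _ c _).symm) _).trans (iff_of_eq ?_)
  congr 1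
  funext i
  simp [g, φ]
  rfl

theorem degree_C_mul_lt {R : Type u} [CommRing R] (a : R) {G : Polynomial R} {n : WithBot ℕ}
    (hG : G.degree < n) : (Polynomial.C a * G).degree < n :=
  lt_of_le_of_lt (by rw [← Polynomial.smul_eq_C_mul]; exact Polynomial.degree_smul_le _ _) hG

variable (p : ℕ) [hp : Fact p.Prime] {A : Type u} [CommRing A] {ι : Type} [Fintype ι]

theorem regular_rootExtMixed [IsRegularLocalRing A] [CharP (ResidueField A) p]
    (hp2 : (p : A) ∈ maximalIdeal A ^ 2) (f : ι → A) (F : ι → MvPolynomial ι A)
    (hF : ∀ i, ∃ G : Polynomial A, G.degree < (p : ℕ) ∧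
      F i = X i ^ p + (p : MvPolynomial ι A) * (Polynomial.aeval (X i : MvPolynomial ι A) G) - C (f i)) :
    IsLocalRing (MvPolynomial ι A ⧸ Ideal.span (Set.range F)) ∧
      (IsRegularRing (MvPolynomial ι A ⧸ Ideal.span (Set.range F)) ↔
        LinearIndependent (ResidueField A) (fun i => (1 : ResidueField A) ⊗ₜ[A] D ℤ A (f i))) := by
  classical
  choose G hG hFG using hF
  let m := maximalIdeal A
  let Ā := A ⧸ m ^ 2
  have : Nontrivial Ā := Ideal.Quotient.nontrivial_iff.2
    (ne_top_of_le_ne_top (maximalIdeal.isMaximal A).ne_top (Ideal.pow_le_self two_ne_zero))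
  have : IsLocalRing Ā := IsLocalRing.of_surjective' (Ideal.Quotient.mk _) Ideal.Quotient.mk_surjective
  have hp0 : (p : Ā) = 0 := by
    rw [← map_natCast (Ideal.Quotient.mk (m ^ 2)), Ideal.Quotient.eq_zero_iff_mem]
    exact hp2
  have : CharP Ā p := (CharP.charP_iff_prime_eq_zero hp.out).2 hp0
  let fbar : ι → Ā := fun i => Ideal.Quotient.mk _ (f i)
  let B := MvPolynomial ι A ⧸ Ideal.span (Set.range F)
  let B' := RootExt p fbar
  have : IsLocalRing B' := isLocalRing_rootExt p fbar
  have : IsLocalHom (algebraMap Ā B') := isLocalHom_rootExt p fbar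
  let Ψ0 := eval₂Hom ((algebraMap Ā B').comp (Ideal.Quotient.mk (m ^ 2))) (root p fbar)
  have hpB' : (p : B') = 0 := by rw [← map_natCast (algebraMap Ā B'), hp0, map_zero]
  have hΨ0 : Ideal.span (Set.range F) ≤ RingHom.ker Ψ0 := by
    rw [Ideal.span_le]
    rintro _ ⟨i, rfl⟩
    simpa [Ψ0, hFG i, hpB', fbar] using sub_eq_zero.2 (root_pow p fbar i)
  let Ψ : B →+* B' := Ideal.Quotient.lift _ Ψ0 fun q hq => hΨ0 hq
  have hΨC : ∀ a, Ψ (algebraMap A B a) = algebraMap Ā B' (Ideal.Quotient.mk _ a) := fun a =>
    eval₂Hom_C _ _ a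
  let tB : ι → B := fun i => Ideal.Quotient.mk _ (X i)
  have hΨX : ∀ i, Ψ (tB i) = root p fbar i := fun i => eval₂Hom_X' _ _ i
  have hΨsurj : Function.Surjective Ψ := fun y => by
    induction y using rootExt_induction with
    | hC a => obtain ⟨a, rfl⟩ := Ideal.Quotient.mk_surjective a; exact ⟨_, hΨC a⟩
    | hadd x y hx hy =>
      obtain ⟨b, rfl⟩ := hx
      obtain ⟨c, rfl⟩ := hy
      exact ⟨b + c, map_add _ _ _⟩
    | hmul x i hx =>
      obtain ⟨b, rfl⟩ := hx
      exact ⟨b * tB i, by rw [map_mul, hΨX]⟩
  -- the relations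
  have hrel : ∀ i, tB i ^ p + (p : B) * Polynomial.aeval (tB i) (G i) - algebraMap A B (f i) = 0 := by
    intro i
    have h : Ideal.Quotient.mkₐ A (Ideal.span (Set.range F)) (F i) = 0 :=
      Ideal.Quotient.eq_zero_iff_mem.2 (Ideal.subset_span ⟨i, rfl⟩)
    rw [hFG, map_sub, map_add, map_mul, map_pow, map_natCast, ← Polynomial.aeval_algHom_apply] at h
    exact h
  have hker : RingHom.ker Ψ = (m ^ 2).map (algebraMap A B) := by
    refine le_antisymm (fun b hb => ?_) ?_
    · let Q := B ⧸ (m ^ 2).map (algebraMap A B)
      let j : Ā →+* Q := Ideal.Quotient.lift _ ((Ideal.Quotient.mk _).comp (algebraMap A B))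
        fun a ha => Ideal.Quotient.eq_zero_iff_mem.2 (Ideal.mem_map_of_mem _ ha)
      let inv0 := eval₂Hom j fun i => (Ideal.Quotient.mk _ (tB i) : Q)
      have hinv : rootIdeal p fbar ≤ RingHom.ker inv0 := by
        rw [Ideal.span_le]
        rintro _ ⟨i, rfl⟩
        have hpI : (p : B) * Polynomial.aeval (tB i) (G i) ∈ (m ^ 2).map (algebraMap A B) := by
          refine Ideal.mul_mem_right _ _ ?_
          rw [← map_natCast (algebraMap A B)]
          exact Ideal.mem_map_of_mem _ hp2
        have h := congrArg (Ideal.Quotient.mk ((m ^ 2).map (algebraMap A B))) (hrel i)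
        rw [map_sub, map_add, Ideal.Quotient.eq_zero_iff_mem.2 hpI, add_zero, map_pow, map_zero] at h
        show inv0 (X i ^ p - C (fbar i)) = 0
        rw [map_sub, map_pow, eval₂Hom_X', eval₂Hom_C]
        exact h
      let inv : B' →+* Q := Ideal.Quotient.lift _ inv0 fun q hq => hinv hq
      have hid : inv.comp Ψ = Ideal.Quotient.mk _ := by
        refine Ideal.Quotient.ringHom_ext (MvPolynomial.ringHom_ext (fun a => ?_) fun i => ?_)
        · show inv (Ψ (algebraMap A B a)) = _
          rw [hΨC]
          exact eval₂Hom_C _ _ _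
        · show inv (Ψ (tB i)) = _
          rw [hΨX]
          exact eval₂Hom_X' _ _ _
      have h2 := RingHom.congr_fun hid b
      rw [RingHom.comp_apply, RingHom.mem_ker.1 hb, map_zero] at h2
      exact Ideal.Quotient.eq_zero_iff_mem.1 h2.symm
    · rw [Ideal.map_le_iff_le_comap]
      intro a ha
      show Ψ (algebraMap A B a) = 0
      rw [hΨC, Ideal.Quotient.eq_zero_iff_mem.2 ha, map_zero]
  -- integrality
  have hint : Algebra.IsIntegral A B := ⟨fun b => by
    show b ∈ integralClosure A B
    obtain ⟨q, rfl⟩ := Ideal.Quotient.mk_surjective b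
    induction q using MvPolynomial.induction_on with
    | C a => exact Subalgebra.algebraMap_mem _ a
    | add q r hq hr => rw [map_add]; exact add_mem hq hr
    | mul_X q i hq =>
      rw [map_mul]
      refine mul_mem hq ⟨Polynomial.X ^ p +
        (Polynomial.C (p : A) * G i - Polynomial.C (f i)), ?_, ?_⟩
      · refine Polynomial.monic_X_pow_add ((Polynomial.degree_sub_le _ _).trans_lt (max_lt ?_ ?_))
        · exact degree_C_mul_lt _ (hG i)
        · exact lt_of_le_of_lt Polynomial.degree_C_le (by exact_mod_cast hp.out.pos)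
      · show Polynomial.aeval (tB i) _ = 0
        rw [map_add, map_sub, map_mul, map_pow, Polynomial.aeval_X, Polynomial.aeval_C,
          Polynomial.aeval_C, map_natCast, ← hrel i]
        ring⟩
  have hjac : ∀ M : Ideal B, M.IsMaximal → RingHom.ker Ψ ≤ M := by
    intro M hM
    rw [hker, Ideal.map_le_iff_le_comap]
    have h1 : (M.comap (algebraMap A B)).IsMaximal :=
      Ideal.isMaximal_comap_of_isIntegral_of_isMaximal M
    rw [eq_maximalIdeal h1]
    exact Ideal.pow_le_self two_ne_zero
  have : Nontrivial B := Ψ.domain_nontrivial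
  have hlocal : IsLocalRing B := IsLocalRing.of_unique_max_ideal
    ⟨(maximalIdeal B').comap Ψ, Ideal.comap_isMaximal_of_surjective Ψ hΨsurj, fun M hM => by
      have h1 := Ideal.IsMaximal.map_of_surjective_of_ker_le hΨsurj (hjac M hM)
      rw [← eq_maximalIdeal h1, Ideal.comap_map_of_surjective _ hΨsurj]
      exact (sup_eq_left.2 (hjac M hM)).symm⟩
  refine ⟨hlocal, ?_⟩
  have hk2 : RingHom.ker Ψ ≤ maximalIdeal B ^ 2 := by
    rw [hker, Ideal.map_pow]
    refine Ideal.pow_right_mono ?_ 2
    rw [Ideal.map_le_iff_le_comap,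
      eq_maximalIdeal (Ideal.isMaximal_comap_of_isIntegral_of_isMaximal (R := A) (maximalIdeal B))]
  have hinj : Function.Injective (algebraMap A B) := by
    have : IsDomain A := DepthLib.isDomain_of_isRegularLocalRing A
    let Ω := AlgebraicClosure (FractionRing A)
    have h1 : Function.Injective (algebraMap A Ω) := by
      rw [IsScalarTower.algebraMap_eq A (FractionRing A) Ω]
      exact (RingHom.injective (algebraMap (FractionRing A) Ω)).comp
        (IsFractionRing.injective A (FractionRing A))
    have : FaithfulSMul A Ω := (faithfulSMul_iff_algebraMap_injective A Ω).2 h1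
    have hroot : ∀ i, ∃ r : Ω, r ^ p + (p : Ω) * Polynomial.aeval r (G i) -
        algebraMap A Ω (f i) = 0 := by
      intro i
      let P : Polynomial A := Polynomial.X ^ p + (Polynomial.C (p : A) * G i - Polynomial.C (f i))
      have hdeg : (Polynomial.C (p : A) * G i - Polynomial.C (f i)).degree < (p : ℕ) :=
        (Polynomial.degree_sub_le _ _).trans_lt (max_lt
          (degree_C_mul_lt _ (hG i))
          (lt_of_le_of_lt Polynomial.degree_C_le (by exact_mod_cast hp.out.pos)))
      have hPd : P.degree = (p : ℕ) := by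
        show (Polynomial.X ^ p + _).degree = _
        rw [Polynomial.degree_add_eq_left_of_degree_lt (by rwa [Polynomial.degree_X_pow]),
          Polynomial.degree_X_pow]
      obtain ⟨r, hr⟩ := IsAlgClosed.exists_aeval_eq_zero Ω P (by
        rw [hPd]; exact_mod_cast hp.out.ne_zero)
      refine ⟨r, ?_⟩
      simp only [P, map_add, map_sub, map_mul, map_pow, Polynomial.aeval_X, Polynomial.aeval_C,
        map_natCast] at hr
      rw [← hr]
      ring
    choose r hr using hroot
    have hkerev : Ideal.span (Set.range F) ≤ RingHom.ker (aeval (R := A) r) := by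
      rw [Ideal.span_le]
      rintro _ ⟨i, rfl⟩
      show aeval r (F i) = 0
      rw [hFG, map_sub, map_add, map_mul, map_pow, map_natCast, ← Polynomial.aeval_algHom_apply,
        aeval_X, aeval_C]
      exact hr i
    let ev : B →ₐ[A] Ω := Ideal.Quotient.liftₐ _ (aeval r) fun q hq => hkerev hq
    intro a b hab
    exact h1 (by rw [← ev.commutes, hab, ev.commutes])
  have hdim : ringKrullDim B = ringKrullDim A :=
    DimTrdeg.ringKrullDim_eq_of_isIntegral A B hinj
  have hequiv : IsRegularRing B ↔ IsRegularLocalRing B :=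
    ⟨fun _ => IsRegularLocalRing.of_isRegularRing_of_isLocalRing B,
      fun _ => RegularSerre.isRegularRing_of_isRegularLocalRing B⟩
  have eB : (maximalIdeal B').spanFinrank = (maximalIdeal B).spanFinrank :=
    spanFinrank_maximalIdeal_of_ker_le_sq Ψ hΨsurj hk2
  have eA : (maximalIdeal Ā).spanFinrank = (maximalIdeal A).spanFinrank :=
    spanFinrank_maximalIdeal_of_ker_le_sq (Ideal.Quotient.mk (m ^ 2)) Ideal.Quotient.mk_surjective
      (by rw [Ideal.mk_ker])
  rw [hequiv, isRegularLocalRing_iff, hdim,
    ← IsRegularLocalRing.spanFinrank_maximalIdeal (R := A), Nat.cast_inj, ← eB, ← eA,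
    spanFinrank_maximalIdeal_eq_finrank_cotangentSpace,
    spanFinrank_maximalIdeal_eq_finrank_cotangentSpace, linearIndependent_kaehler_sq f]
  exact finrank_cotangentSpace_rootExt_iff p fbar

end Groth.Agent.EGA41Lib
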