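import Mathlib.RingTheory.Unramified.Field
import Mathlib.FieldTheory.PurelyInseparable.Basic
import Mathlib.RingTheory.Nakayama
import Mathlib.RingTheory.IntegralClosure.IsIntegralClosure.Basic
import Mathlib.RingTheory.Ideal.Quotient.Operations

/-!
# Unramified purely inseparable algebras of finite type are surjective
-/

universe u

namespace Groth.Agent.EGA41Lib

theorem surjective_of_unramified_of_pow {p : ℕ} [hp : Fact p.Prime] {A B : Type u} [CommRing A]
    [CommRing B] [Algebra A B] [CharP B p] [Algebra.FiniteType A B]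
    [Algebra.FormallyUnramified A B] (s : ℕ)
    (hpow : ∀ b : B, b ^ p ^ s ∈ Set.range (algebraMap A B)) :
    Function.Surjective (algebraMap A B) := by
  have hq : 0 < p ^ s := pow_pos hp.out.pos s
  have : Algebra.IsIntegral A B := ⟨fun b => by
    obtain ⟨a, ha⟩ := hpow b
    exact IsIntegral.of_pow hq (ha ▸ isIntegral_algebraMap)⟩
  have : Module.Finite A B := Algebra.IsIntegral.finite
  have hB : Module.Finite A B := this
  let N : Submodule A B := LinearMap.range (Algebra.linearMap A B)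
  suffices N = ⊤ by
    intro b
    exact (this ▸ Submodule.mem_top : b ∈ N)
  by_contra hN
  have : Nontrivial (B ⧸ N) := Submodule.Quotient.nontrivial_iff.2 hN
  obtain ⟨m, hm, hle⟩ := Ideal.exists_le_maximal (Module.annihilator A (B ⧸ N)) (by
    intro h
    rw [Module.annihilator_eq_top_iff] at h
    exact false_of_nontrivial_of_subsingleton (B ⧸ N))
  let : Field (A ⧸ m) := Ideal.Quotient.field m
  let J : Ideal B := m.map (algebraMap A B)
  have key : ∀ b : B, ∃ a : A, b - algebraMap A B a ∈ J := by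
    intro b
    rcases eq_or_ne J ⊤ with hJ | hJ
    · exact ⟨0, hJ ▸ Submodule.mem_top⟩
    let Q := B ⧸ J
    have : Nontrivial Q := Ideal.Quotient.nontrivial_iff.2 hJ
    have hQred : IsReduced Q := Algebra.FormallyUnramified.isReduced_of_field (A ⧸ m) Q
    have hQpow : ∀ y : Q, ∃ c : A ⧸ m, algebraMap (A ⧸ m) Q c = y ^ p ^ s := by
      intro y
      obtain ⟨c, rfl⟩ := Ideal.Quotient.mk_surjective y
      obtain ⟨a, ha⟩ := hpow c
      refine ⟨Ideal.Quotient.mk m a, ?_⟩
      rw [← map_pow, ← ha]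
      rfl
    have hQfield : IsField Q := by
      refine ⟨exists_pair_ne Q, mul_comm, fun {y} hy => ?_⟩
      obtain ⟨c, hc⟩ := hQpow y
      have hc0 : c ≠ 0 := fun h => hy (IsNilpotent.eq_zero ⟨p ^ s, by rw [← hc, h, map_zero]⟩)
      refine ⟨y ^ (p ^ s - 1) * algebraMap (A ⧸ m) Q c⁻¹, ?_⟩
      rw [← mul_assoc, ← pow_succ', Nat.sub_add_cancel hq, ← hc, ← map_mul,
        mul_inv_cancel₀ hc0, map_one]
    let : Field Q := hQfield.toField
    have : CharP Q p := (CharP.charP_iff_prime_eq_zero hp.out).2 (by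
      rw [← map_natCast (Ideal.Quotient.mk J), CharP.cast_eq_zero, map_zero])
    have : CharP (A ⧸ m) p :=
      ((algebraMap (A ⧸ m) Q).charP_iff (RingHom.injective _) p).2 inferInstance
    have : ExpChar (A ⧸ m) p := ExpChar.prime hp.out
    have : IsPurelyInseparable (A ⧸ m) Q :=
      (isPurelyInseparable_iff_pow_mem (A ⧸ m) p).2 fun y => ⟨s, hQpow y⟩
    have : Algebra.IsSeparable (A ⧸ m) Q := Algebra.FormallyUnramified.isSeparable _ _
    obtain ⟨c, hc⟩ := IsPurelyInseparable.surjective_algebraMap_of_isSeparable (A ⧸ m) Q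
      (Ideal.Quotient.mk J b)
    obtain ⟨a, rfl⟩ := Ideal.Quotient.mk_surjective c
    refine ⟨a, (Ideal.Quotient.mk_eq_mk_iff_sub_mem _ _).1 ?_⟩
    rw [← hc]
    rfl
  have htop : (⊤ : Submodule A (B ⧸ N)) ≤ m • (⊤ : Submodule A (B ⧸ N)) := by
    rintro q -
    obtain ⟨b, rfl⟩ := N.mkQ_surjective q
    obtain ⟨a, ha⟩ := key b
    have h1 : b - algebraMap A B a ∈ m • (⊤ : Submodule A B) := by
      rw [Ideal.smul_top_eq_map]
      exact ha
    have h2 : N.mkQ (b - algebraMap A B a) ∈ Submodule.map N.mkQ (m • (⊤ : Submodule A B)) :=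
      Submodule.mem_map_of_mem h1
    rw [Submodule.map_smul'', Submodule.map_top, Submodule.range_mkQ, map_sub] at h2
    have h0 : N.mkQ (algebraMap A B a) = 0 := by
      rw [Submodule.mkQ_apply, Submodule.Quotient.mk_eq_zero]
      exact ⟨a, rfl⟩
    rwa [h0, sub_zero] at h2
  obtain ⟨r, hr, hr0⟩ :=
    Submodule.exists_sub_one_mem_and_smul_eq_zero_of_fg_of_le_smul m
      (⊤ : Submodule A (B ⧸ N)) Module.Finite.fg_top htop
  have hrm : r ∈ m := hle (Module.mem_annihilator.2 fun q => hr0 q trivial)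
  exact hm.ne_top ((Ideal.eq_top_iff_one m).2 (by simpa using m.sub_mem hrm hr))

end Groth.Agent.EGA41Lib
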